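import Mathlib
import Cfsg.Agent.Lib.Fusion.SylIn
import Cfsg.Agent.Lib.PGroup.Basic
import Cfsg.Agent.Lib.PGroup.MaxClass2
import Cfsg.Agent.Lib.Core.Frattini
import Cfsg.Agent.Lib.ChDeg.Deg
import Cfsg.Agent.Lib.Cover.Basic

/-!
# Sylow subgroups of symmetric groups on a subset
-/

set_option autoImplicit false

namespace CfsgLib.SymChar

open Equiv Finset Cfsg CfsgLib.Char CfsgLib.ChDeg CfsgLib.Fusion
open scoped Nat commutatorElement

section Abstract

variable {P : Type*} [Group P] [Finite P] {p : ℕ} [hp : Fact p.Prime]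

theorem exists_irr_deg_eq (hP : IsPGroup p P) {A M : Subgroup P} (hA : A.index ≤ p)
    (hM : ∀ x ∈ A, ∀ y ∈ A, ⁅x, y⁆ ∈ M) {a g : P} (ha : a ∈ A) (haM : a ∉ M)
    (h1 : g * a * g⁻¹ ∈ A) (h2 : g * a * g⁻¹ ∈ M) :
    ∃ θ : IrrCharacter P, charDegree (θ : P → ℂ) = p := by
  classical
  have := Fintype.ofFinite P
  have h3 : commutator A ≤ M.subgroupOf A := by
    rw [commutator_def, Subgroup.commutator_le]
    exact fun x _ y _ => hM x x.2 y y.2
  have := Subgroup.Normal.of_commutator_le _ h3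
  obtain ⟨l, hl, h4, h5⟩ := exists_irr_le_cker_not_mem (M.subgroupOf A) (g := ⟨a, ha⟩) haM
  have hl1 := one_eq_one_of_commutator_le hl (h3.trans h4)
  have hl' := isCharacter_of_isIrr hl
  obtain ⟨χ, hχ⟩ := Cover.exists_over A ⟨l, hl⟩
  have h6 : charDegree (χ : P → ℂ) ≤ p := by
    have := deg_le_of_inner_ne_zero (isCharacter_indFun A hl') χ.2 fun h =>
      hχ (by rw [← classInner_indFun_right A _ (irr_isClassFunction χ)]
             exact classInner_eq_zero_symm h)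
    rw [deg_ind A hl', (deg_eq_one_iff hl').2 hl1, mul_one] at this
    exact this.trans hA
  obtain ⟨n, hn⟩ := hP.exists_card_eq
  obtain ⟨k, -, hk⟩ := (Nat.dvd_prime_pow hp.out).1 (hn ▸ deg_dvd_card χ.2)
  refine ⟨χ, ?_⟩
  rw [hk] at h6 ⊢
  have h7 : k ≤ 1 := (Nat.pow_le_pow_iff_right hp.out.one_lt).1 (by simpa using h6)
  rcases Nat.le_one_iff_eq_zero_or_eq_one.1 h7 with rfl | rfl
  · exfalso
    have h8 := eq_of_inner_ne_zero_of_deg_le (isCharacter_restrict A (irr_isCharacter χ)) hl hχ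
      (by rw [deg_res, hk]; exact deg_pos hl)
    apply h5
    rw [mem_cker hl', ← (mem_cker hl').1 (h4 (x := ⟨_, h1⟩) h2), ← h8]
    exact (irr_isClassFunction χ a g).symm
  · simp

theorem exists_max_ge {G : Type*} [Group G] [Finite G] {D H : Subgroup G} (hD : IsPGroup p D)
    (hne : ¬ D ≤ H) : ∃ A, D ⊓ H ≤ A ∧ A ≤ D ∧ A.relIndex D = p ∧
      (∀ g ∈ D, ∀ a ∈ A, g * a * g⁻¹ ∈ A) ∧ (∀ x ∈ D, ∀ y ∈ D, ⁅x, y⁆ ∈ A) ∧
      ∀ g ∈ D, g ^ p ∈ A := by
  obtain ⟨M, hM, h1, h2⟩ := Core.exists_normal_index_eq_ge_of_isPGroup hD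
    (H := H.subgroupOf D) fun h => hne (Subgroup.subgroupOf_eq_top.1 h)
  refine ⟨M.map D.subtype, fun x hx => ⟨⟨x, hx.1⟩, h1 hx.2, rfl⟩, Subgroup.map_subtype_le _,
    ?_, ?_, fun x hx y hy => ⟨⁅(⟨x, hx⟩ : D), ⟨y, hy⟩⁆, ?_, rfl⟩,
    fun g hg => ⟨⟨g, hg⟩ ^ p, h2 ▸ M.pow_index_mem _, rfl⟩⟩
  · rw [Subgroup.relIndex, Subgroup.subgroupOf, Subgroup.comap_map_eq_self_of_injective
      D.subtype_injective, h2]
  · rintro g hg _ ⟨a, ha, rfl⟩
    exact ⟨_, hM.conj_mem a ha ⟨g, hg⟩, rfl⟩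
  · exact Core.commutator_le_of_index_prime (h2 ▸ hp.out)
      (Subgroup.commutator_mem_commutator (Subgroup.mem_top _) (Subgroup.mem_top _))

omit hp in
theorem card_le_of_sectional {G W : Type*} [Group G] [CommGroup W] {s : ℕ}
    (hs : SectionalPRankLE p s P) (ι : P →* G) (hι : Function.Injective ι) (f : W →* G)
    (hf : Function.Injective f) (h : ∀ w, f w ∈ ι.range) (hW : ∀ w : W, w ^ p = 1) :
    Nat.card W ≤ p ^ s := by
  have h1 := PGroup.relIndex_le_of_sectionalPRankLE hs (H := f.range.comap ι) (N := ⊥)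
    (Subgroup.commutator_le.2 fun x ⟨a, ha⟩ y ⟨b, hb⟩ => hι (by
      rw [map_commutatorElement, ← ha, ← hb, ← map_commutatorElement,
        commutatorElement_eq_one_iff_mul_comm.2 (mul_comm a b), map_one, map_one]))
    fun x ⟨a, ha⟩ => hι (by rw [map_pow, ← ha, ← map_pow, hW, map_one, map_one])
  rwa [Subgroup.relIndex_bot_left, ← Subgroup.card_map_of_injective hι,
    Subgroup.map_comap_eq_self (by rintro _ ⟨w, rfl⟩; exact h w), MonoidHom.range_eq_map,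
    Subgroup.card_map_of_injective hf, Subgroup.card_top] at h1

end Abstract

variable {Ω : Type*} {p : ℕ}

/-- The permutations supported on `T`. -/
def SymOn (T : Set Ω) : Subgroup (Perm Ω) where
  carrier := {g | ∀ ω, ω ∉ T → g ω = ω}
  one_mem' _ _ := rfl
  mul_mem' ha hb ω h := by rw [Perm.mul_apply, hb ω h, ha ω h]
  inv_mem' ha ω h := Perm.inv_eq_iff_eq.2 (ha ω h).symm

theorem card_SymOn [Fintype Ω] [DecidableEq Ω] (T : Finset Ω) :
    Nat.card (SymOn (T : Set Ω)) = (#T)! := by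
  rw [← Fintype.card_coe, ← Fintype.card_perm, ← Nat.card_eq_fintype_card]
  exact (Nat.card_congr (Perm.subtypeEquivSubtypePerm (· ∈ T))).symm

open Classical in
/-- The restriction of a permutation to an invariant set. -/
noncomputable def cut (g : Perm Ω) (S : Set Ω) (h : ∀ x, g x ∈ S ↔ x ∈ S) : Perm Ω :=
  Perm.ofSubtype (g.subtypePerm h)

theorem cut_of_mem {g : Perm Ω} {S : Set Ω} (h : ∀ x, g x ∈ S ↔ x ∈ S) {x : Ω} (hx : x ∈ S) :
    cut g S h x = g x := by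
  classical exact Perm.ofSubtype_apply_of_mem (p := (· ∈ S)) _ hx

theorem cut_of_notMem {g : Perm Ω} {S : Set Ω} (h : ∀ x, g x ∈ S ↔ x ∈ S) {x : Ω} (hx : x ∉ S) :
    cut g S h x = x := by
  classical exact Perm.ofSubtype_apply_of_not_mem (p := (· ∈ S)) _ hx

/-- Orbits. -/
def orb (H : Subgroup (Perm Ω)) (ω : Ω) : Set Ω := {x | ∃ h ∈ H, h ω = x}

theorem self_mem_orb (H : Subgroup (Perm Ω)) (ω : Ω) : ω ∈ orb H ω := ⟨1, H.one_mem, rfl⟩

theorem apply_mem_orb {H : Subgroup (Perm Ω)} {g : Perm Ω} (hg : g ∈ H) (ω x : Ω) :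
    g x ∈ orb H ω ↔ x ∈ orb H ω :=
  ⟨fun ⟨h, hh, e⟩ => ⟨g⁻¹ * h, H.mul_mem (H.inv_mem hg) hh, by simp [e]⟩,
    fun ⟨h, hh, e⟩ => ⟨g * h, H.mul_mem hg hh, by simp [e]⟩⟩

theorem mem_orb_iff {H : Subgroup (Perm Ω)} {ω x y : Ω} (h : y ∈ orb H x) :
    y ∈ orb H ω ↔ x ∈ orb H ω := by
  obtain ⟨g, hg, rfl⟩ := h
  exact apply_mem_orb hg ω x

/-- The permutations that agree with elements of `D` on each orbit of `H`. -/
def loc {D H : Subgroup (Perm Ω)} (hle : D ≤ H) : Subgroup (Perm Ω) where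
  carrier := {g | ∀ ω, ∃ d ∈ D, ∀ x ∈ orb H ω, g x = d x}
  one_mem' _ := ⟨1, D.one_mem, fun _ _ => rfl⟩
  mul_mem' {a b} ha hb ω := by
    obtain ⟨d, hd, h1⟩ := ha ω
    obtain ⟨e, he, h2⟩ := hb ω
    exact ⟨d * e, D.mul_mem hd he, fun x hx => by
      rw [Perm.mul_apply, h2 x hx, h1 _ ((apply_mem_orb (hle he) ω x).2 hx), Perm.mul_apply]⟩
  inv_mem' {a} ha ω := by
    obtain ⟨d, hd, h1⟩ := ha ω
    exact ⟨d⁻¹, D.inv_mem hd, fun x hx => Perm.inv_eq_iff_eq.2 (by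
      rw [h1 _ ((apply_mem_orb (hle (D.inv_mem hd)) ω x).2 hx)]; simp)⟩

variable {D H : Subgroup (Perm Ω)}

theorem le_loc (hle : D ≤ H) : D ≤ loc hle := fun d hd _ => ⟨d, hd, fun _ _ => rfl⟩

theorem cut_mem_loc (hle : D ≤ H) {d : Perm Ω} (hd : d ∈ D) (ω : Ω) :
    cut d (orb H ω) (apply_mem_orb (hle hd) ω) ∈ loc hle := fun x => by
  by_cases hx : x ∈ orb H ω
  · exact ⟨d, hd, fun y hy => cut_of_mem _ ((mem_orb_iff hy).2 hx)⟩
  · exact ⟨1, D.one_mem, fun y hy => cut_of_notMem _ (mt (mem_orb_iff hy).1 hx)⟩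

theorem isPGroup_loc [Finite Ω] [Fact p.Prime] (hle : D ≤ H) (hD : IsPGroup p D) :
    IsPGroup p (loc hle) := by
  obtain ⟨n, hn⟩ := hD.exists_card_eq
  refine fun g => ⟨n, Subtype.ext (Perm.ext fun ω => ?_)⟩
  obtain ⟨d, hd, h⟩ := g.2 ω
  have h1 : ∀ k : ℕ, (g.1 ^ k) ω = (d ^ k) ω := fun k => by
    induction k with
    | zero => rfl
    | succ k ih =>
      rw [pow_succ', pow_succ', Perm.mul_apply, Perm.mul_apply, ih]
      exact h _ ⟨_, hle (D.pow_mem hd k), rfl⟩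
  have h2 : d ^ p ^ n = 1 := by
    rw [← hn]; exact congrArg Subtype.val (pow_card_eq_one' (x := (⟨d, hd⟩ : D)))
  simp [h1, h2]

/-- A Sylow subgroup of a centralizer has an element that moves all points moved by it. -/
theorem exists_full_support [Finite Ω] [Fact p.Prime] {y : Perm Ω}
    (hD : SylIn p D (Subgroup.centralizer {y})) :
    ∃ x ∈ D, ∀ ω, x ω = ω → ∀ d ∈ D, d ω = ω := by
  classical
  have := Fintype.ofFinite Ω
  have hy : ∀ d ∈ D, d * y = y * d := fun d hd =>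
    Subgroup.mem_centralizer_singleton_iff.1 (hD.le hd)
  have hle : D ≤ D ⊔ Subgroup.zpowers y := le_sup_left
  have hK : loc hle = D := hD.eq_of_le (isPGroup_loc hle hD.isPGroup) (le_loc hle) fun g hg =>
    Subgroup.mem_centralizer_singleton_iff.2 (Perm.ext fun ω => by
      obtain ⟨d, hd, h⟩ := hg ω
      rw [Perm.mul_apply, Perm.mul_apply, h ω (self_mem_orb _ ω),
        h _ ⟨y, Subgroup.mem_sup_right (Subgroup.mem_zpowers y), rfl⟩, ← Perm.mul_apply, hy d hd,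
        Perm.mul_apply])
  have hZ : ∀ z ∈ D ⊓ Subgroup.centralizer (D : Set (Perm Ω)), ∀ ω, z ω = ω →
      ∀ x ∈ orb (D ⊔ Subgroup.zpowers y) ω, z x = x := by
    rintro z hz ω h _ ⟨g, hg, rfl⟩
    have : D ⊔ Subgroup.zpowers y ≤ Subgroup.centralizer {z} :=
      sup_le (fun d hd => Subgroup.mem_centralizer_singleton_iff.2 (hz.2 d hd))
        ((Subgroup.zpowers_le).2 (Subgroup.mem_centralizer_singleton_iff.2 (hy z hz.1).symm))
    rw [← Perm.mul_apply, ← Subgroup.mem_centralizer_singleton_iff.1 (this hg), Perm.mul_apply, h]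
  obtain ⟨x, hx, hmax⟩ := exists_max_image {z | z ∈ D ⊓ Subgroup.centralizer (D : Set (Perm Ω))}
    (fun z => #z.support) ⟨1, mem_filter.2 ⟨mem_univ _, Subgroup.one_mem _⟩⟩
  have hx := (mem_filter.1 hx).2
  refine ⟨x, hx.1, fun ω hω d hd => by_contra fun hdω => ?_⟩
  set O := orb (D ⊔ Subgroup.zpowers y) ω
  have hn : ((SymOn O).subgroupOf D).Normal := ⟨fun a ha g v hv => by
    have : (a : Perm Ω) ((g : Perm Ω)⁻¹ v) = (g : Perm Ω)⁻¹ v :=
      ha _ (mt (apply_mem_orb (hle (D.inv_mem g.2)) ω v).1 hv)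
    change (g : Perm Ω) ((a : Perm Ω) ((g : Perm Ω)⁻¹ v)) = v
    rw [this]; simp⟩
  have := hD.isPGroup.isNilpotent
  obtain ⟨z, hz, hz1, hz2⟩ := PGroup.exists_mem_center_of_normal ((SymOn O).subgroupOf D) (by
    refine (Subgroup.ne_bot_iff_exists_ne_one).2 ⟨⟨⟨_, hK ▸ cut_mem_loc hle hd ω⟩,
      fun v hv => cut_of_notMem _ hv⟩, fun h => hdω ?_⟩
    rw [← cut_of_mem (apply_mem_orb (hle hd) ω) (self_mem_orb _ ω)]
    exact DFunLike.congr_fun (congrArg (fun t => t.1.1) h) ω)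
  have hz3 : z.1 ∈ D ⊓ Subgroup.centralizer (D : Set (Perm Ω)) :=
    ⟨z.2, fun g hg => congrArg Subtype.val (Subgroup.mem_center_iff.1 hz1 ⟨g, hg⟩)⟩
  have hz4 : z.1 ω ≠ ω := fun h => hz2 (Subtype.ext (Perm.ext fun v => by
    by_cases hv : v ∈ O
    exacts [hZ _ hz3 ω h v hv, hz v hv]))
  refine (hmax (x * z.1) (mem_filter.2 ⟨mem_univ _, Subgroup.mul_mem _ hx hz3⟩)).not_gt
    (card_lt_card ⟨fun v hv => ?_, fun h => ?_⟩)
  · rw [Perm.mem_support] at hv ⊢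
    rwa [Perm.mul_apply, show z.1 v = v from hz v fun h => hv (hZ x hx ω hω v h)]
  · refine Perm.mem_support.1 (h (Perm.mem_support.2 ?_)) hω
    rwa [Perm.mul_apply, hZ x hx ω hω _ ⟨_, hle z.2, rfl⟩]

variable {T : Set Ω}

theorem exists_AM [Finite Ω] [hp : Fact p.Prime] (hD : SylIn p D (SymOn T)) {c : Perm Ω}
    (hc : c ∈ D) {ω : Ω} (hω : (c ^ p) ω ≠ ω) :
    ∃ (A M : Subgroup (Perm Ω)) (a : Perm Ω), A ≤ D ∧ M ≤ A ∧ A.relIndex D = p ∧
      (∀ g ∈ D, ∀ x ∈ A, g * x * g⁻¹ ∈ A) ∧ (∀ x ∈ A, ∀ y ∈ A, ⁅x, y⁆ ∈ M) ∧ a ∈ A ∧ a ∉ M ∧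
      (∀ g ∈ D, g ∉ A → g * a * g⁻¹ ∈ M) ∧ (∀ x ∈ D, x ω = ω → x ∈ M) ∧
      ∀ x ∈ A, ∀ v ∈ orb A ω, x v = v → x ∈ M := by
  obtain ⟨A, h1, h2, h3, h4, -, h5⟩ := exists_max_ge hD.isPGroup (H := MulAction.stabilizer _ ω)
    fun h => hω (h (D.pow_mem hc p))
  have hA := hD.isPGroup.to_le h2
  obtain ⟨M, k1, k2, k3, k4, k5, -⟩ := exists_max_ge hA (H := MulAction.stabilizer _ ω)
    fun h => hω (h (h5 c hc))
  have k6 : ∀ x ∈ D, x ω = ω → x ∈ M := fun x hx h => k1 ⟨h1 ⟨hx, h⟩, h⟩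
  obtain ⟨a, ha, haM⟩ : ∃ a ∈ A, a ∉ M := by
    by_contra h
    push Not at h
    rw [Subgroup.relIndex_eq_one.2 h] at k3
    exact hp.out.one_lt.ne k3
  have hK : loc (le_refl A) ≤ D := by
    have hn : ∀ d ∈ D, ∀ g ∈ loc (le_refl A), d * g * d⁻¹ ∈ loc (le_refl A) := fun d hd g hg v => by
      obtain ⟨e, he, h⟩ := hg (d⁻¹ v)
      refine ⟨_, h4 d hd e he, ?_⟩
      rintro _ ⟨a, ha, rfl⟩
      rw [Perm.mul_apply, Perm.mul_apply, h _ ⟨_, h4 d⁻¹ (D.inv_mem hd) a ha, by simp⟩]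
      rfl
    have hn' : D ≤ Subgroup.normalizer (loc (le_refl A) : Set (Perm Ω)) := fun d hd g =>
      ⟨hn d hd g, fun h => by simpa [mul_assoc] using hn d⁻¹ (D.inv_mem hd) _ h⟩
    refine le_sup_right.trans (hD.eq_of_le (IsPGroup.to_sup_of_normal_right' hD.isPGroup
      (isPGroup_loc _ hA) hn') le_sup_left (sup_le hD.le fun g hg v hv => ?_)).le
    obtain ⟨d, hd, h⟩ := hg v
    rw [h v (self_mem_orb _ v), hD.le (h2 hd) v hv]
  have ha1 := hK (cut_mem_loc (le_refl A) ha ω)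
  set b := cut a (orb A ω) (apply_mem_orb (le_refl A ha) ω)
  have hb : a⁻¹ * b ∈ M := k6 _ (D.mul_mem (D.inv_mem (h2 ha)) ha1) (by
    rw [Perm.mul_apply, cut_of_mem _ (self_mem_orb _ ω)]; simp)
  refine ⟨A, M, b, h2, k2, h3, h4, k5, by simpa using A.mul_mem ha (k2 hb), fun h => haM ?_,
    fun g hg hgA => k6 _ (D.mul_mem (D.mul_mem hg ha1) (D.inv_mem hg)) ?_, k6, ?_⟩
  · simpa using M.mul_mem h (M.inv_mem hb)
  · rw [Perm.mul_apply, Perm.mul_apply, cut_of_notMem]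
    · simp
    · rintro ⟨e, he, h⟩
      have : g * e ∈ A := k2 (k6 _ (D.mul_mem hg (h2 he)) (by simp [h]))
      exact hgA (by simpa using A.mul_mem this (A.inv_mem he))
  · rintro x hx _ ⟨e, he, rfl⟩ h
    have : e⁻¹ * x * e ∈ M := k6 _ (h2 (A.mul_mem (A.mul_mem (A.inv_mem he) hx) he)) (by simp [h])
    simpa [mul_assoc] using k4 e he _ this

theorem viaEmbedding_eq {α : Type*} (e : Perm α) (f : α ↪ Ω) {g : Perm Ω}
    (h1 : ∀ a, g (f a) = f (e a)) (h2 : ∀ x, x ∉ Set.range f → g x = x) : e.viaEmbedding f = g :=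
  Perm.ext fun x => by
    by_cases hx : x ∈ Set.range f
    · obtain ⟨a, rfl⟩ := hx
      rw [Perm.viaEmbedding_apply, h1]
    · rw [Perm.viaEmbedding_apply_of_notMem _ _ _ hx, h2 x hx]

theorem sign_viaEmbedding [Fintype Ω] [DecidableEq Ω] {α : Type*} [Fintype α] [DecidableEq α]
    (e : Perm α) (f : α ↪ Ω) : Perm.sign (e.viaEmbedding f) = Perm.sign e := by
  exact @Perm.sign_extendDomain _ _ _ _ _ _ e _ (_) _

theorem exists_emb [Finite Ω] [Fact p.Prime] {T : Finset Ω} (hD : SylIn p D (SymOn (T : Set Ω)))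
    {α V : Type*} [Fintype α] [Group V] (hV : IsPGroup p V) (ρ : V →* Perm α)
    (hα : Fintype.card α ≤ #T) : ∃ f : α ↪ Ω, ∀ v, (ρ v).viaEmbedding f ∈ D := by
  obtain ⟨f₀⟩ : Nonempty (α ↪ T) := Function.Embedding.nonempty_of_card_le (by simpa using hα)
  set f := f₀.trans (Function.Embedding.subtype _)
  obtain ⟨y, -, hy⟩ := hD.exists_conj (U := ((Perm.viaEmbeddingHom f).comp ρ).range)
    (hV.of_surjective _ (MonoidHom.rangeRestrict_surjective _)) (by
      rintro _ ⟨v, rfl⟩ ω hω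
      exact Perm.viaEmbedding_apply_of_notMem _ _ _ fun ⟨a, ha⟩ => hω (ha ▸ (f₀ a).2))
  refine ⟨f.trans y.toEmbedding, fun v => ?_⟩
  rw [viaEmbedding_eq (g := y * (ρ v).viaEmbedding f * y⁻¹)]
  · exact hy _ ⟨v, rfl⟩
  · intro a
    simp [Perm.viaEmbedding_apply]
  · intro x hx
    rw [Perm.mul_apply, Perm.mul_apply, Perm.viaEmbedding_apply_of_notMem]
    · simp
    · rintro ⟨a, ha⟩
      exact hx ⟨a, by simp [ha]⟩

/-- The product action of `V ^ m`. -/
def prodHom (m : ℕ) (V : Type*) [Group V] : (Fin m → V) →* Perm (Fin m × V) :=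
  MonoidHom.mk' (fun x => prodCongrRight fun i => MulAction.toPerm (x i)) fun x y =>
    Perm.ext fun ⟨i, v⟩ => by simp [mul_assoc]

theorem exists_elem [Fintype Ω] [DecidableEq Ω] [Fact p.Prime] {T : Finset Ω}
    (hD : SylIn p D (SymOn (T : Set Ω))) {V : Type*} [Group V] [Fintype V] [DecidableEq V]
    (hV : ∀ v : V, v ^ p = 1) {m : ℕ} (hm : m * Fintype.card V ≤ #T) :
    ∃ f : (Fin m → V) →* Perm Ω, Function.Injective f ∧ ∀ x, f x ∈ D ∧
      Perm.sign (f x) = ∏ i, Perm.sign (MulAction.toPerm (x i) : Perm V) := by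
  obtain ⟨f, hf⟩ := exists_emb hD (V := Fin m → V)
    (fun x => ⟨1, funext fun i => by simp [hV]⟩) (prodHom m V) (by simpa using hm)
  refine ⟨(Perm.viaEmbeddingHom f).comp (prodHom m V), (Perm.viaEmbeddingHom_injective f).comp
    ((injective_iff_map_eq_one _).2 fun x hx => funext fun i => ?_), fun x => ⟨hf x, ?_⟩⟩
  · simpa [prodHom] using DFunLike.congr_fun hx (i, 1)
  · exact (sign_viaEmbedding _ f).trans (Perm.sign_prodCongrRight fun i => MulAction.toPerm (x i))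

theorem SylIn_card_eq {G : Type*} [Group G] [Finite G] [hp : Fact p.Prime] {D H : Subgroup G}
    (hD : SylIn p D H) : Nat.card D = p ^ (Nat.card H).factorization p := by
  obtain ⟨S⟩ : Nonempty (Sylow p H) := inferInstance
  rw [hD.card_eq (sylIn_map_subtype S), Subgroup.card_map_of_injective H.subtype_injective,
    S.card_eq_multiplicity]

section Range

variable [Fintype Ω] [DecidableEq Ω] [hp : Fact p.Prime] {T : Finset Ω} {P : Type*} [Group P]
  [Finite P] {ι : P →* Perm Ω}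

theorem pow_le_of_sectional (hD : SylIn p D (SymOn (T : Set Ω))) {w s : ℕ} (hT : p * w ≤ #T)
    (hι : Function.Injective ι) (hP : D ≤ ι.range) (hs : SectionalPRankLE p s P) :
    p ^ w ≤ p ^ s := by
  have hV : ∀ v : Multiplicative (ZMod p), v ^ p = 1 := fun v => by
    simpa using pow_card_eq_one (x := v)
  obtain ⟨f, hf, h⟩ := exists_elem hD hV (m := w) (by simpa [mul_comm] using hT)
  simpa using card_le_of_sectional hs ι hι f hf (fun x => hP (h x).1) fun x => funext fun i => hV _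

theorem four_pow_le_of_sectional {D : Subgroup (Perm Ω)} (hD : SylIn 2 D (SymOn (T : Set Ω)))
    {m s : ℕ} (hT : m * 4 ≤ #T) (hι : Function.Injective ι)
    (hP : D ⊓ alternatingGroup Ω ≤ ι.range) (hs : SectionalPRankLE 2 s P) : 4 ^ m ≤ 2 ^ s := by
  have hV : ∀ v : Multiplicative (ZMod 2 × ZMod 2), v ^ 2 = 1 := by decide
  have hV' : ∀ v : Multiplicative (ZMod 2 × ZMod 2),
      Perm.sign (MulAction.toPerm v : Perm (Multiplicative (ZMod 2 × ZMod 2))) = 1 := by decide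
  obtain ⟨f, hf, h⟩ := exists_elem hD hV (m := m) (by simpa using hT)
  simpa using card_le_of_sectional hs ι hι f hf (fun x => hP ⟨(h x).1, by
    simp [Perm.mem_alternatingGroup, (h x).2, hV']⟩) fun x => funext fun i => hV _

omit [Finite P] in
theorem isMulCommutative_of_card (hD : SylIn p D (SymOn (T : Set Ω))) {w : ℕ} (hT : p * w ≤ #T)
    (hc : Nat.card D ≤ p ^ w) : IsMulCommutative D := by
  have hV : ∀ v : Multiplicative (ZMod p), v ^ p = 1 := fun v => by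
    simpa using pow_card_eq_one (x := v)
  obtain ⟨f, hf, h⟩ := exists_elem hD hV (m := w) (by simpa [mul_comm] using hT)
  rw [← eq_of_le_of_card_le' (H := f.range) (K := D) (by rintro _ ⟨x, rfl⟩; exact (h x).1) (by
    rw [MonoidHom.range_eq_map, Subgroup.card_map_of_injective hf]
    simpa using hc)]
  refine ⟨⟨?_⟩⟩
  rintro ⟨_, x, rfl⟩ ⟨_, y, rfl⟩
  exact Subtype.ext (by simp [← map_mul, mul_comm])

omit [Fintype Ω] [DecidableEq Ω] in
theorem exists_irr_of_AM [Finite Ω] (hD : IsPGroup p D) (hι : Function.Injective ι)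
    (hP : ι.range ≤ D) {A M : Subgroup (Perm Ω)} (hA : A.relIndex D = p)
    (hM : ∀ x ∈ A, ∀ y ∈ A, ⁅x, y⁆ ∈ M) (hMA : M ≤ A) {a g : Perm Ω} (ha : a ∈ A) (haM : a ∉ M)
    (h : g * a * g⁻¹ ∈ M) (ha' : a ∈ ι.range) (hg : g ∈ ι.range) :
    ∃ θ : IrrCharacter P, charDegree (θ : P → ℂ) = p := by
  obtain ⟨a, rfl⟩ := ha'
  obtain ⟨g, rfl⟩ := hg
  refine exists_irr_deg_eq (A := A.comap ι) (M := M.comap ι) (a := a) (g := g)
    ((hD.to_le hP).of_equiv (MonoidHom.ofInjective hι).symm) ?_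
    (fun x hx y hy => ?_) ha haM (by simpa using hMA h) (by simpa using h)
  · rw [Subgroup.index_comap, ← hA]
    exact Subgroup.relIndex_le_of_le_right hP (hA ▸ hp.out.ne_zero)
  · rw [Subgroup.mem_comap, map_commutatorElement]
    exact hM _ hx _ hy

theorem exists_irr_of_sq_le (hD : SylIn p D (SymOn (T : Set Ω))) (hT : p ^ 2 ≤ #T)
    (hι : Function.Injective ι) (hP : ι.range = D) :
    ∃ θ : IrrCharacter P, charDegree (θ : P → ℂ) = p := by
  have : NeZero (p ^ 2) := ⟨pow_ne_zero _ hp.out.ne_zero⟩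
  obtain ⟨f, hf⟩ := exists_emb hD (V := Multiplicative (ZMod (p ^ 2)))
    (IsPGroup.of_card (n := 2) (by simp)) (MulAction.toPermHom _ (Multiplicative (ZMod (p ^ 2))))
    (by simpa using hT)
  obtain ⟨A, M, a, h1, h2, h3, -, h5, h6, h7, h8, -⟩ := exists_AM hD (hf (.ofAdd 1)) (ω := f 1) (by
    rw [← Perm.viaEmbeddingHom_apply, ← map_pow, ← map_pow, Perm.viaEmbeddingHom_apply,
      Perm.viaEmbedding_apply, f.injective.ne_iff]
    intro h
    have h' : ((p : ℕ) : ZMod (p ^ 2)) = 0 := by simpa [← ofAdd_nsmul] using h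
    rw [ZMod.natCast_eq_zero_iff] at h'
    have := Nat.le_of_dvd hp.out.pos h'
    nlinarith [hp.out.one_lt])
  obtain ⟨g, hg, hgA⟩ : ∃ g ∈ D, g ∉ A := by
    by_contra h
    push Not at h
    rw [Subgroup.relIndex_eq_one.2 h] at h3
    exact hp.out.one_lt.ne h3
  exact exists_irr_of_AM hD.isPGroup hι hP.le h3 h5 h2 h6 h7 (h8 g hg hgA) (hP ▸ h1 h6) (hP ▸ hg)

theorem exists_irr_two {D : Subgroup (Perm Ω)} (hD : SylIn 2 D (SymOn (T : Set Ω))) (hT : 6 ≤ #T)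
    (hι : Function.Injective ι) (hP : ι.range = D ⊓ alternatingGroup Ω) :
    ∃ θ : IrrCharacter P, charDegree (θ : P → ℂ) = 2 := by
  obtain ⟨f, hf⟩ := exists_emb hD (V := Multiplicative (ZMod 4 × ZMod 2))
    (IsPGroup.of_card (n := 3) (by simp)) (α := Fin 6) (MonoidHom.mk' (fun v =>
      (swap 0 1 * swap 1 2 * swap 2 3) ^ v.toAdd.1.val * swap 4 5 ^ v.toAdd.2.val) (by decide))
    (by simpa using hT)
  have hc : Perm.viaEmbedding (swap 0 1 * swap 1 2 * swap 2 3) f ∈ D := by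
    simpa [show (1 : ZMod 4).val = 1 from rfl] using hf (.ofAdd (1, 0))
  have hτ : Perm.viaEmbedding (swap 4 5) f ∈ D := by
    simpa [ZMod.val_one] using hf (.ofAdd (0, 1))
  set c := Perm.viaEmbedding (swap 0 1 * swap 1 2 * swap 2 3) f
  have c0 : c (f 0) = f 1 := (Perm.viaEmbedding_apply _ _ _).trans (congrArg f (by decide))
  have c1 : c (f 1) = f 2 := (Perm.viaEmbedding_apply _ _ _).trans (congrArg f (by decide))
  have c4 : c (f 4) = f 4 := (Perm.viaEmbedding_apply _ _ _).trans (congrArg f (by decide))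
  have c5 : c (f 5) = f 5 := (Perm.viaEmbedding_apply _ _ _).trans (congrArg f (by decide))
  rw [viaEmbedding_eq (g := swap (f 4) (f 5)) _ _ (fun a => f.injective.swap_apply 4 5 a)
    fun x hx => swap_apply_of_ne_of_ne (fun h => hx ⟨4, h.symm⟩) fun h => hx ⟨5, h.symm⟩] at hτ
  set τ := swap (f 4) (f 5)
  have hs : Perm.sign τ = -1 := Perm.sign_swap (f.injective.ne (by decide))
  obtain ⟨A, M, a, h1, h2, h3, h4, h5, h6, h7, h8, h9, h10⟩ := exists_AM hD hc (ω := f 0) (by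
    rw [sq, Perm.mul_apply, c0, c1]; exact f.injective.ne (by decide))
  have hτM : τ ∈ M := h9 _ hτ
    (swap_apply_of_ne_of_ne (f.injective.ne (by decide)) (f.injective.ne (by decide)))
  obtain ⟨g, hg, hgA, hgτ⟩ : ∃ g ∈ D, g ∉ A ∧ g * τ * g⁻¹ ∈ M := by
    by_cases hcA : c ∈ A
    · obtain ⟨g, hg, hgA⟩ : ∃ g ∈ D, g ∉ A := by
        by_contra h
        push Not at h
        rw [Subgroup.relIndex_eq_one.2 h] at h3
        exact absurd h3 (by decide)
      have k0 := self_mem_orb A (f 0)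
      have k1 := c0 ▸ (apply_mem_orb hcA _ _).2 k0
      have k2 := c1 ▸ (apply_mem_orb hcA _ _).2 k1
      refine ⟨g, hg, hgA, by_contra fun h => ?_⟩
      have k : ∀ v ∈ orb A (f 0), v = g (f 4) ∨ v = g (f 5) := fun v hv => by
        by_contra h'
        push Not at h'
        refine h (h10 _ (h4 g hg _ (h2 hτM)) v hv ?_)
        rw [← swap_apply_apply, swap_apply_of_ne_of_ne h'.1 h'.2]
      have n01 : f 0 ≠ f 1 := f.injective.ne (by decide)
      have n02 : f 0 ≠ f 2 := f.injective.ne (by decide)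
      have n12 : f 1 ≠ f 2 := f.injective.ne (by decide)
      rcases k _ k0, k _ k1, k _ k2 with ⟨_ | _, _ | _, _ | _⟩ <;> simp_all
    · exact ⟨c, hc, hcA, by rwa [← swap_apply_apply, c4, c5]⟩
  obtain ⟨g, hg, hgA, hgτ, hgs⟩ : ∃ g ∈ D, g ∉ A ∧ g * τ * g⁻¹ ∈ M ∧ Perm.sign g = 1 := by
    rcases Int.units_eq_one_or (Perm.sign g) with h | h
    · exact ⟨g, hg, hgA, hgτ, h⟩
    · exact ⟨g * τ, D.mul_mem hg hτ, fun h => hgA ((A.mul_mem_cancel_right (h2 hτM)).1 h),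
        by simpa [mul_assoc] using hgτ, by simp [h, hs]⟩
  rcases Int.units_eq_one_or (Perm.sign a) with h | h
  · exact exists_irr_of_AM hD.isPGroup hι (hP.le.trans inf_le_left) h3 h5 h2 h6 h7 (h8 g hg hgA)
      (hP ▸ ⟨h1 h6, h⟩) (hP ▸ ⟨hg, hgs⟩)
  · exact exists_irr_of_AM hD.isPGroup hι (hP.le.trans inf_le_left) h3 h5 h2 (a := a * τ) (g := g)
      (A.mul_mem h6 (h2 hτM)) (fun h => h7 ((M.mul_mem_cancel_right hτM).1 h))
      (by simpa [mul_assoc] using M.mul_mem (h8 g hg hgA) hgτ)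
      (hP ▸ ⟨D.mul_mem (h1 h6) hτ, by simp [Perm.mem_alternatingGroup, h, hs]⟩) (hP ▸ ⟨hg, hgs⟩)

end Range

end CfsgLib.SymChar
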