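import Mathlib

/-!
# Bead configurations: hooks, weights, packed configurations
-/

set_option autoImplicit false

namespace CfsgLib.SymChar

open Equiv Finset

variable {N p : ℕ} {β β' : Fin N → ℤ}

/-- `k` times a basis vector. -/
def ee (c : Fin N) (k : ℤ) : Fin N → ℤ := fun i => if i = c then k else 0

theorem ee_apply (c : Fin N) (k : ℤ) (i : Fin N) : ee c k i = if i = c then k else 0 := rfl

@[simp] theorem ee_self (c : Fin N) (k : ℤ) : ee c k c = k := if_pos rfl

theorem ee_ne {c i : Fin N} (h : i ≠ c) (k : ℤ) : ee c k i = 0 := if_neg h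

@[simp] theorem ee_zero (c : Fin N) : ee c 0 = 0 := by ext i; simp [ee]

theorem ee_add (c : Fin N) (k l : ℤ) : ee c (k + l) = ee c k + ee c l := by
  ext i; simp only [ee, Pi.add_apply]; split_ifs <;> simp

theorem ee_neg (c : Fin N) (k : ℤ) : ee c (-k) = -ee c k := by
  ext i; simp only [ee, Pi.neg_apply]; split_ifs <;> simp

theorem sum_ee (c : Fin N) (k : ℤ) : ∑ i, ee c k i = k := by simp [ee]

theorem ee_comp (c : Fin N) (k : ℤ) (π : Perm (Fin N)) : ee (π c) k ∘ π = ee c k := by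
  ext i; simp [ee]

theorem dvd_ee {a k : ℤ} (h : a ∣ k) (c i : Fin N) : a ∣ ee c k i := by
  unfold ee; split_ifs; exacts [h, dvd_zero _]

/-- The staircase. -/
def del (N : ℕ) : Fin N → ℤ := fun i => (i : ℕ)

/-- Distinct non-negative entries. -/
structure Good (β : Fin N → ℤ) : Prop where
  inj : Function.Injective β
  nn : ∀ i, 0 ≤ β i

theorem good_del : Good (del N) :=
  ⟨fun _ _ h => Fin.ext (by simpa [del] using h), fun _ => Int.natCast_nonneg _⟩

theorem Good.comp (h : Good β) (π : Perm (Fin N)) : Good (β ∘ π) :=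
  ⟨h.inj.comp π.injective, fun _ => h.nn _⟩

theorem Good.move (h : Good β) (c : Fin N) {k : ℤ} (h0 : 0 ≤ β c + k)
    (h1 : ∀ d, d ≠ c → β d ≠ β c + k) : Good (β + ee c k) := by
  refine ⟨fun i j hij => ?_, fun i => ?_⟩
  · simp only [Pi.add_apply, ee_apply] at hij
    by_cases hi : i = c <;> by_cases hj : j = c
    · rw [hi, hj]
    · subst hi; exact absurd (by simpa [hj] using hij.symm) (h1 j hj)
    · subst hj; exact absurd (by simpa [hi] using hij) (h1 i hi)
    · exact h.inj (by simpa [hi, hj] using hij)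
  · simp only [Pi.add_apply, ee_apply]
    split_ifs with hi
    · rwa [hi]
    · simpa using h.nn i

theorem Good.move_sub (h : Good β) (c : Fin N) {k : ℤ} (h0 : k ≤ β c)
    (h1 : ∀ d, d ≠ c → β d ≠ β c - k) : Good (β - ee c k) := by
  rw [sub_eq_add_neg, ← ee_neg]
  exact h.move c (by omega) fun d hd => by simpa [sub_eq_add_neg] using h1 d hd

theorem exists_perm_of_range (h : Function.Injective β) (h' : Function.Injective β')
    (hr : ∀ i, ∃ j, β j = β' i) : ∃ π : Perm (Fin N), β' = β ∘ π := by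
  choose f hf using hr
  have : Function.Injective f := fun i j hij => h' (by rw [← hf, ← hf, hij])
  exact ⟨Equiv.ofBijective f (Finite.injective_iff_bijective.1 this), by ext i; simp [hf]⟩

/-- The size of the partition with beta-numbers `β`. -/
def lvl (β : Fin N → ℤ) : ℤ := ∑ i, β i - ∑ i, del N i

theorem lvl_add_ee (β : Fin N → ℤ) (c : Fin N) (k : ℤ) : lvl (β + ee c k) = lvl β + k := by
  simp only [lvl, Pi.add_apply, sum_add_distrib, sum_ee]; ring

theorem lvl_sub_ee (β : Fin N → ℤ) (c : Fin N) (k : ℤ) : lvl (β - ee c k) = lvl β - k := by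
  simp only [lvl, Pi.sub_apply, sum_sub_distrib, sum_ee]; ring

theorem lvl_comp (β : Fin N → ℤ) (π : Perm (Fin N)) : lvl (β ∘ π) = lvl β := by
  simp only [lvl, Function.comp, Equiv.sum_comp π β]

theorem lvl_del : lvl (del N) = 0 := sub_self _

/-- The empty places below a bead. -/
noncomputable def gaps (β : Fin N → ℤ) (c : Fin N) : Finset ℤ := {y ∈ Ico 0 (β c) | ∀ d, β d ≠ y}

theorem mem_gaps {c : Fin N} {y : ℤ} : y ∈ gaps β c ↔ (0 ≤ y ∧ y < β c) ∧ ∀ d, β d ≠ y := by
  simp [gaps]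

/-- The number of hooks of length divisible by `p`. -/
noncomputable def hk (p : ℕ) (β : Fin N → ℤ) : ℕ := ∑ c, #{y ∈ gaps β c | (p : ℤ) ∣ β c - y}

/-- Twice the weight. -/
def w2 (p : ℕ) (β : Fin N → ℤ) : ℤ :=
  2 * ∑ c, β c / p - #{x : Fin N × Fin N | x.1 ≠ x.2 ∧ (p : ℤ) ∣ β x.1 - β x.2}

theorem card_Ico_dvd (hp : 0 < p) {a : ℤ} (ha : 0 ≤ a) :
    (#{y ∈ Ico 0 a | (p : ℤ) ∣ a - y} : ℤ) = a / p := by
  have hp' : (0 : ℤ) < p := by exact_mod_cast hp
  have : #{y ∈ Ico 0 a | (p : ℤ) ∣ a - y} = #(Icc 1 (a / p)) := by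
    symm
    refine card_bij (fun k _ => a - p * k) (fun k hk => ?_) (fun k _ l _ h => ?_) fun y hy => ?_
    · obtain ⟨h1, h2⟩ := mem_Icc.1 hk
      have := (Int.le_ediv_iff_mul_le hp').1 h2
      simp only [mem_filter, mem_Ico, sub_sub_cancel, dvd_mul_right, and_true]
      constructor <;> nlinarith
    · exact mul_left_cancel₀ hp'.ne' (sub_right_injective h)
    · obtain ⟨h1, k, hk⟩ := mem_filter.1 hy
      obtain ⟨h1, h2⟩ := mem_Ico.1 h1
      refine ⟨k, mem_Icc.2 ⟨?_, (Int.le_ediv_iff_mul_le hp').2 (by linarith)⟩, by linarith⟩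
      by_contra h
      have : (p : ℤ) * k ≤ 0 := mul_nonpos_of_nonneg_of_nonpos hp'.le (by omega)
      omega
  rw [this, Int.card_Icc, add_sub_cancel_right, Int.toNat_of_nonneg (Int.ediv_nonneg ha hp'.le)]

/-- The number of beads below `c` on its runner. -/
def below (p : ℕ) (β : Fin N → ℤ) (c : Fin N) : ℕ := #{d | β d < β c ∧ (p : ℤ) ∣ β c - β d}

theorem Good.ediv_eq (h : Good β) (hp : 0 < p) (c : Fin N) :
    β c / p = #{y ∈ gaps β c | (p : ℤ) ∣ β c - y} + below p β c := by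
  rw [← card_Ico_dvd hp (h.nn c), ← card_filter_add_card_filter_not (p := fun y => ∀ d, β d ≠ y),
    Nat.cast_add, below, ← card_image_of_injective _ h.inj]
  congr 3
  · ext y; simp only [mem_filter, mem_gaps, mem_Ico]; tauto
  · ext y
    simp only [mem_filter, mem_Ico, not_forall, not_not, mem_image, mem_univ, true_and]
    constructor
    · rintro ⟨⟨⟨-, h1⟩, h2⟩, d, rfl⟩
      exact ⟨d, ⟨h1, h2⟩, rfl⟩
    · rintro ⟨d, ⟨h1, h2⟩, rfl⟩
      exact ⟨⟨⟨h.nn d, h1⟩, h2⟩, d, rfl⟩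

theorem card_pairs (h : Function.Injective β) (p : ℕ) :
    #{x : Fin N × Fin N | x.1 ≠ x.2 ∧ (p : ℤ) ∣ β x.1 - β x.2} = 2 * ∑ c, below p β c := by
  have h1 : #{x : Fin N × Fin N | β x.2 < β x.1 ∧ (p : ℤ) ∣ β x.1 - β x.2} =
      ∑ c, below p β c := by
    rw [card_filter, ← univ_product_univ, sum_product]
    exact sum_congr rfl fun c _ => by rw [below, card_filter]
  have h2 : #{x : Fin N × Fin N | β x.1 < β x.2 ∧ (p : ℤ) ∣ β x.1 - β x.2} =
      ∑ c, below p β c := by
    rw [← h1]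
    refine card_bij (fun x _ => x.swap) (fun x hx => ?_) (fun x _ y _ h => Prod.swap_injective h)
      fun y hy => ⟨y.swap, ?_, rfl⟩
    · simpa [dvd_sub_comm] using hx
    · simpa [dvd_sub_comm] using hy
  rw [two_mul]
  nth_rw 1 [← h1]
  rw [← h2, ← card_union_of_disjoint]
  · congr 1
    ext x
    simp only [mem_filter, mem_univ, true_and, mem_union, ← or_and_right]
    rw [← h.ne_iff, ne_iff_gt_or_lt]
  · exact disjoint_filter.2 fun x _ h1 h2 => lt_asymm h1.1 h2.1

theorem Good.w2_eq (h : Good β) (hp : 0 < p) : w2 p β = 2 * hk p β := by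
  simp only [w2, card_pairs h.inj, h.ediv_eq hp, hk, sum_add_distrib]
  push_cast
  ring

theorem w2_congr (hp : 0 < p) (h : ∀ i, (p : ℤ) ∣ β' i - β i) :
    p * w2 p β' - 2 * lvl β' = p * w2 p β - 2 * lvl β := by
  have h1 : ∀ i, p * (β' i / p) - β' i = p * (β i / p) - β i := fun i => by
    have := Int.emod_emod_of_dvd
    have h2 := Int.mul_ediv_add_emod (β' i) p
    have h3 := Int.mul_ediv_add_emod (β i) p
    have h4 : β i % p = β' i % p := Int.emod_eq_emod_iff_emod_sub_eq_zero.2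
      (Int.emod_eq_zero_of_dvd (dvd_sub_comm.1 (h i)))
    omega
  have h2 : #{x : Fin N × Fin N | x.1 ≠ x.2 ∧ (p : ℤ) ∣ β' x.1 - β' x.2} =
      #{x : Fin N × Fin N | x.1 ≠ x.2 ∧ (p : ℤ) ∣ β x.1 - β x.2} := by
    congr 1
    refine filter_congr fun x _ => and_congr_right fun _ => ?_
    have : β' x.1 - β' x.2 = β x.1 - β x.2 + ((β' x.1 - β x.1) - (β' x.2 - β x.2)) := by ring
    rw [this, dvd_add_left (dvd_sub (h _) (h _))]
  have h3 := sum_congr (s₁ := univ) rfl fun i _ => h1 i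
  simp only [sum_sub_distrib, ← mul_sum] at h3
  simp only [w2, lvl, h2]
  linear_combination 2 * h3

theorem hk_congr (hp : 0 < p) (hβ : Good β) (hβ' : Good β') (h : ∀ i, (p : ℤ) ∣ β' i - β i) :
    p * (hk p β' : ℤ) - lvl β' = p * (hk p β : ℤ) - lvl β := by
  have := w2_congr hp h
  rw [hβ.w2_eq hp, hβ'.w2_eq hp] at this
  linarith

theorem hk_eq_of_lvl (hp : 0 < p) (hβ : Good β) (hβ' : Good β')
    (h : ∀ i, (p : ℤ) ∣ β' i - β i) {k : ℕ} (hl : lvl β' = lvl β + p * k) :
    hk p β' = hk p β + k := by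
  have h1 := hk_congr hp hβ hβ' h
  have h2 : (p : ℤ) * hk p β' = p * (hk p β + k) := by linarith
  exact_mod_cast mul_left_cancel₀ (by exact_mod_cast hp.ne') h2

theorem hk_comp (p : ℕ) (β : Fin N → ℤ) (π : Perm (Fin N)) : hk p (β ∘ π) = hk p β := by
  unfold hk
  rw [← Equiv.sum_comp π (fun c => #{y ∈ gaps β c | (p : ℤ) ∣ β c - y})]
  refine sum_congr rfl fun c _ => ?_
  congr 1
  ext y
  simp only [mem_filter, mem_gaps, Function.comp]
  rw [← π.forall_congr_right (q := fun d => β d ≠ y)]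

theorem hk_del (p : ℕ) : hk p (del N) = 0 := by
  refine sum_eq_zero fun c _ => card_eq_zero.2 (filter_eq_empty_iff.2 fun y hy => ?_)
  obtain ⟨⟨h1, h2⟩, h3⟩ := mem_gaps.1 hy
  simp only [del] at h2
  exact absurd (by simp [del, h1]) (h3 ⟨y.toNat, by omega⟩)

theorem Good.lvl_eq (h : Good β) : lvl β = hk 1 β := by
  have := hk_congr one_pos good_del h fun _ => one_dvd _
  rw [hk_del, lvl_del] at this
  push_cast at this
  linarith

theorem Good.lvl_nonneg (h : Good β) : 0 ≤ lvl β := h.lvl_eq ▸ Int.natCast_nonneg _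

theorem w2_one (β : Fin N → ℤ) : w2 1 β = 2 * lvl β := by
  have := w2_congr (β' := β) (β := del N) one_pos fun _ => one_dvd _
  rw [good_del.w2_eq one_pos, hk_del, lvl_del] at this
  push_cast at this
  linarith

/-- Small places are occupied when there are many beads. -/
theorem Good.exists_eq (h : Good β) {y : ℤ} (h0 : 0 ≤ y) (hy : lvl β + y < N) : ∃ c, β c = y := by
  by_contra hc
  push Not at hc
  have h1 : #{c | β c < y} ≤ y.toNat := by
    rw [← card_image_of_injective _ h.inj]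
    refine (card_le_card (t := Ico 0 y) fun z hz => ?_).trans (by simp)
    obtain ⟨c, hc, rfl⟩ := mem_image.1 hz
    exact mem_Ico.2 ⟨h.nn c, (mem_filter.1 hc).2⟩
  have h2 : #{c | ¬ β c < y} ≤ hk 1 β := by
    rw [hk, card_filter]
    refine sum_le_sum fun c _ => ?_
    split_ifs with h3
    · exact Nat.zero_le _
    · exact card_pos.2 ⟨y, mem_filter.2 ⟨mem_gaps.2 ⟨⟨h0, lt_of_le_of_ne (not_lt.1 h3) (hc c).symm⟩,
        hc⟩, one_dvd _⟩⟩
  have h3 := card_filter_add_card_filter_not (s := univ) (fun c => β c < y)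
  rw [card_univ, Fintype.card_fin] at h3
  have := h.lvl_eq
  omega

/-- No bead of `s` can move down one step. -/
def PackedOn (p : ℕ) (s : Finset (Fin N)) (β : Fin N → ℤ) : Prop :=
  ∀ c ∈ s, (p : ℤ) ≤ β c → ∃ d ∈ s, β d = β c - p

theorem PackedOn.exists_eq {s : Finset (Fin N)} (h : PackedOn p s β) {c : Fin N} (hc : c ∈ s)
    {y : ℤ} (h0 : 0 ≤ y) (h1 : y ≤ β c) (h2 : (p : ℤ) ∣ β c - y) : ∃ d ∈ s, β d = y := by
  rcases Nat.eq_zero_or_pos p with rfl | hp
  · exact ⟨c, hc, by simpa [sub_eq_zero] using h2⟩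
  obtain ⟨k, hk⟩ := h2
  have hk0 : 0 ≤ k := by
    by_contra h3
    have : (p : ℤ) * k < 0 := mul_neg_of_pos_of_neg (by exact_mod_cast hp) (by omega)
    omega
  lift k to ℕ using hk0
  induction k generalizing c with
  | zero => exact ⟨c, hc, by simpa [sub_eq_zero] using hk⟩
  | succ k ih =>
    have h3 : (0 : ℤ) ≤ p * k := by positivity
    push_cast at hk
    obtain ⟨d, hd, hd'⟩ := h c hc (by linarith)
    exact ih hd (by linarith) (by linarith)

theorem packed_of_hk (hp : 0 < p) (h : hk p β = 0) : PackedOn p univ β := by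
  intro c _ hc
  by_contra h1
  have h2 := card_eq_zero.1 (sum_eq_zero_iff.1 h c (mem_univ _))
  refine filter_eq_empty_iff.1 h2 (x := β c - p) (mem_gaps.2 ⟨⟨by omega, by omega⟩, ?_⟩) (by simp)
  exact fun d hd => h1 ⟨d, mem_univ _, hd⟩

theorem PackedOn.hk_eq (h : PackedOn p univ β) : hk p β = 0 := by
  refine sum_eq_zero fun c _ => card_eq_zero.2 (filter_eq_empty_iff.2 fun y hy h2 => ?_)
  obtain ⟨⟨h0, h1⟩, h3⟩ := mem_gaps.1 hy
  obtain ⟨d, -, hd⟩ := h.exists_eq (mem_univ c) h0 h1.le h2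
  exact h3 d hd

theorem Good.exists_down (h : Good β) (h0 : hk p β ≠ 0) :
    ∃ c, Good (β - ee c p) := by
  have : ¬ PackedOn p univ β := fun h1 => h0 h1.hk_eq
  simp only [PackedOn, mem_univ, true_and, true_imp_iff, not_forall, not_exists] at this
  obtain ⟨c, h1, h2⟩ := this
  exact ⟨c, h.move_sub c h1 fun d _ => h2 d⟩

theorem PackedOn.exists_eq_of_congr {s : Finset (Fin N)} (hp : 0 < p) (hβ : Good β)
    (hβ' : Good β') (h : PackedOn p s β) (h' : PackedOn p s β') (hc : ∀ i, (p : ℤ) ∣ β' i - β i)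
    {c : Fin N} (hcs : c ∈ s) : ∃ d ∈ s, β d = β' c := by
  by_contra hx
  have h1 : #{y ∈ Ico 0 (β' c) | (p : ℤ) ∣ β' c - y} < #{d ∈ s | (p : ℤ) ∣ β' c - β' d} := by
    rw [← card_image_of_injective _ hβ'.inj]
    refine card_lt_card ⟨fun y hy => ?_, fun h2 => ?_⟩
    · obtain ⟨h2, h3⟩ := mem_filter.1 hy
      obtain ⟨d, hd, rfl⟩ := h'.exists_eq hcs (mem_Ico.1 h2).1 (mem_Ico.1 h2).2.le h3
      exact mem_image_of_mem _ (mem_filter.2 ⟨hd, h3⟩)
    · simpa using h2 (mem_image_of_mem β' (mem_filter.2 ⟨hcs, by simp⟩))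
  have h2 : #{d ∈ s | (p : ℤ) ∣ β' c - β' d} ≤ #{y ∈ Ico 0 (β' c) | (p : ℤ) ∣ β' c - y} := by
    rw [← card_image_of_injective _ hβ.inj]
    refine card_le_card fun y hy => ?_
    obtain ⟨d, hd, rfl⟩ := mem_image.1 hy
    obtain ⟨hd, h3⟩ := mem_filter.1 hd
    have h4 : (p : ℤ) ∣ β' c - β d := by simpa using dvd_add h3 (hc d)
    refine mem_filter.2 ⟨mem_Ico.2 ⟨hβ.nn d, ?_⟩, h4⟩
    by_contra h5
    exact hx (h.exists_eq hd (hβ'.nn c) (not_lt.1 h5) (dvd_sub_comm.1 h4))
  omega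

theorem exists_perm_of_packed (hp : 0 < p) (hβ : Good β) (hβ' : Good β') (h : hk p β = 0)
    (h' : hk p β' = 0) (hc : ∀ i, (p : ℤ) ∣ β' i - β i) : ∃ π : Perm (Fin N), β' = β ∘ π :=
  exists_perm_of_range hβ.inj hβ'.inj fun i => by
    obtain ⟨d, -, hd⟩ := (packed_of_hk hp h).exists_eq_of_congr hp hβ hβ' (packed_of_hk hp h') hc
      (mem_univ i)
    exact ⟨d, hd⟩

theorem Good.exists_perm_del (h : Good β) (h0 : lvl β = 0) :
    ∃ π : Perm (Fin N), β = del N ∘ π :=
  exists_perm_of_packed one_pos good_del h (hk_del 1) (by have := h.lvl_eq; omega)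
    fun _ => one_dvd _

/-- Push all beads down their runners. -/
def pack (p : ℕ) (β : Fin N → ℤ) : Fin N → ℤ := fun c => β c % p + p * below p β c

theorem dvd_sub_pack (p : ℕ) (β : Fin N → ℤ) (c : Fin N) : (p : ℤ) ∣ β c - pack p β c := by
  have := Int.mul_ediv_add_emod (β c) p
  exact ⟨β c / p - below p β c, by simp only [pack]; linarith⟩

theorem pack_congr (hc : ∀ i, (p : ℤ) ∣ β' i - β i)
    (ho : ∀ c d, (p : ℤ) ∣ β c - β d → (β' d < β' c ↔ β d < β c)) : pack p β' = pack p β := by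
  ext c
  simp only [pack, below]
  congr 1
  · exact Int.emod_eq_emod_iff_emod_sub_eq_zero.2 (Int.emod_eq_zero_of_dvd (hc c))
  · congr 3
    refine filter_congr fun d _ => ?_
    have : β' c - β' d = β c - β d + ((β' c - β c) - (β' d - β d)) := by ring
    rw [this, dvd_add_left (dvd_sub (hc _) (hc _))]
    exact and_congr_left fun h => ho c d h

theorem Good.pack_eq (h : Good β) (hp : 0 < p) (h0 : hk p β = 0) : pack p β = β := by
  ext c
  have h1 := h.ediv_eq hp c
  rw [sum_eq_zero_iff.1 h0 c (mem_univ _)] at h1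
  have := Int.mul_ediv_add_emod (β c) p
  simp only [pack]
  rw [← this, h1]
  simp [add_comm]

theorem pack_down (h : Good β) {c : Fin N} (h' : Good (β - ee c p)) :
    pack p (β - ee c p) = pack p β := by
  refine pack_congr (fun i => by simpa using dvd_ee dvd_rfl c i) fun a d had => ?_
  rcases Nat.eq_zero_or_pos p with rfl | hp
  · simp
  have hp' : (0 : ℤ) < p := by exact_mod_cast hp
  have key : ∀ x y : ℤ, (p : ℤ) ∣ x - y → y < x → y + p ≤ x := fun x y h1 h2 => by
    have := Int.le_of_dvd (by omega) h1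
    omega
  have h1 := h'.inj.ne_iff (x := a) (y := d)
  have h2 := h.inj.ne_iff (x := a) (y := d)
  simp only [Pi.sub_apply, ee_apply] at h1 ⊢
  by_cases ha : a = c <;> by_cases hd : d = c
  · simp [ha, hd]
  · subst ha
    simp only [if_true, hd, if_false, sub_zero] at h1 ⊢
    refine ⟨fun h3 => by omega, fun h3 => ?_⟩
    have := key _ _ had h3
    have := h1.2 (Ne.symm hd)
    omega
  · subst hd
    simp only [if_true, ha, if_false, sub_zero] at h1 ⊢
    refine ⟨fun h3 => ?_, fun h3 => by omega⟩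
    by_contra h4
    have := h2.2 ha
    have := key _ _ (dvd_sub_comm.1 had) (by omega)
    have := h1.2 ha
    omega
  · simp [ha, hd]

theorem hk_down (hp : 0 < p) (h : Good β) {c : Fin N} {k : ℕ} (h' : Good (β - ee c (p * k))) :
    hk p β = hk p (β - ee c (p * k)) + k :=
  hk_eq_of_lvl hp h' h (fun i => by simpa using dvd_ee (dvd_mul_right _ _) c i)
    (by rw [lvl_sub_ee]; ring)

theorem hk_down_one (hp : 0 < p) (h : Good β) {c : Fin N} (h' : Good (β - ee c p)) :
    hk p β = hk p (β - ee c p) + 1 := by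
  simpa using hk_down (k := 1) hp h (c := c) (by simpa using h')

theorem Good.pack (h : Good β) (hp : 0 < p) : Good (pack p β) ∧ hk p (pack p β) = 0 := by
  induction hw : hk p β generalizing β with
  | zero => rw [h.pack_eq hp hw]; exact ⟨h, hw⟩
  | succ w ih =>
    obtain ⟨c, hc⟩ := h.exists_down (p := p) (by omega)
    rw [← pack_down h hc]
    exact ih hc (by have := hk_down_one hp h hc; omega)

theorem Good.lvl_pack (h : Good β) (hp : 0 < p) : lvl (SymChar.pack p β) = lvl β - p * hk p β := by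
  have := hk_congr hp (h.pack hp).1 h (dvd_sub_pack p β)
  rw [(h.pack hp).2] at this
  push_cast at this
  linarith

theorem Good.mul_hk_le (h : Good β) (hp : 0 < p) : (p : ℤ) * hk p β ≤ lvl β := by
  have := (h.pack hp).1.lvl_nonneg
  rw [h.lvl_pack hp] at this
  linarith

theorem exists_top (p : ℕ) (β : Fin N → ℤ) (c : Fin N) :
    ∃ t, (p : ℤ) ∣ β c - β t ∧ ∀ d, (p : ℤ) ∣ β t - β d → β d ≤ β t := by
  obtain ⟨t, ht, h⟩ := exists_max_image {d | (p : ℤ) ∣ β c - β d} β ⟨c, by simp⟩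
  have ht := (mem_filter.1 ht).2
  exact ⟨t, ht, fun d hd => h d (mem_filter.2 ⟨mem_univ _, by simpa using dvd_add ht hd⟩)⟩

section L0

variable {V : Type*} [AddCommGroup V] [Module ℂ V]

theorem sum_ite_le (h : ℕ → V) {a K : ℕ} (ha : a ≤ K) :
    ∑ k ∈ Icc 1 K, (if k ≤ a then h k else 0) = ∑ k ∈ range a, h (k + 1) := by
  rw [← sum_filter, range_eq_Ico, sum_Ico_add' h 0 a 1]
  congr 1
  ext k
  simp only [mem_filter, mem_Icc, mem_Ico]
  omega

theorem sum_pair_anti (h : ℤ → V) (a b : ℕ) (hh : ∀ t, h (a - b - t) = -h t) :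
    ∑ k ∈ range a, h (k + 1 : ℕ) + ∑ k ∈ range b, h (-(k + 1 : ℕ)) = -h 0 := by
  have h1 : ∑ i ∈ range (b + (a + 1)), h (i - b) = 0 := by
    have h2 := sum_range_reflect (fun i : ℕ => h (i - b)) (b + (a + 1))
    rw [sum_congr rfl (g := fun i : ℕ => -h (i - b)), sum_neg_distrib] at h2
    · have h3 : (2 : ℂ) • ∑ i ∈ range (b + (a + 1)), h (i - b) = 0 := by
        rw [two_smul]; nth_rw 1 [← h2]; simp
      simpa using h3
    · intro i hi
      rw [← hh]
      congr 1
      have := mem_range.1 hi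
      omega
  rw [sum_range_add, sum_range_succ', ← sum_range_reflect] at h1
  rw [eq_neg_iff_add_eq_zero, ← h1, add_comm (∑ k ∈ range a, _), add_assoc]
  congr 1
  · exact sum_congr rfl fun i hi => by congr 1; have := mem_range.1 hi; omega
  · congr 1
    · exact sum_congr rfl fun i _ => by congr 1; omega
    · simp

/-- The energy identity. -/
theorem sum_down_up (hp : 0 < p) (G : (Fin N → ℤ) → V) (h0 : ∀ i, 0 ≤ β i) {K : ℕ}
    (hK : ∀ i, β i ≤ p * K)
    (hG : ∀ γ c d, c ≠ d → (∀ i, (p : ℤ) ∣ γ i - β i) → (p : ℤ) ∣ β c - β d →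
      G (γ ∘ swap c d) = -G γ) :
    (2 : ℂ) • ∑ k ∈ Icc 1 K, ∑ c, (if (p : ℤ) * k ≤ β c then
      ∑ d with (p : ℤ) ∣ β c - β d, G (β - ee c (p * k) + ee d (p * k)) else 0) =
      (w2 p β : ℂ) • G β := by
  have hp' : (0 : ℤ) < p := by exact_mod_cast hp
  set a : Fin N → ℕ := fun c => (β c / p).toNat with ha
  have ha1 : ∀ c, (a c : ℤ) = β c / p := fun c =>
    Int.toNat_of_nonneg (Int.ediv_nonneg (h0 c) hp'.le)
  have ha2 : ∀ c (k : ℕ), (p : ℤ) * k ≤ β c ↔ k ≤ a c := fun c k => by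
    rw [mul_comm, ← Int.le_ediv_iff_mul_le hp', ← ha1, Nat.cast_le]
  have ha3 : ∀ c, a c ≤ K := fun c => by
    have := Int.ediv_le_of_le_mul hp' ((hK c).trans_eq (mul_comm _ _))
    have := ha1 c
    omega
  set S : Fin N → Fin N → V := fun c d => if (p : ℤ) ∣ β c - β d then
    ∑ k ∈ range (a c), G (β - ee c (p * (k + 1 : ℕ)) + ee d (p * (k + 1 : ℕ))) else 0 with hS
  have h1 : ∑ k ∈ Icc 1 K, ∑ c, (if (p : ℤ) * k ≤ β c then
      ∑ d with (p : ℤ) ∣ β c - β d, G (β - ee c (p * k) + ee d (p * k)) else 0) =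
      ∑ c, ∑ d, S c d := by
    rw [sum_comm]
    refine sum_congr rfl fun c _ => ?_
    simp only [ha2]
    rw [sum_ite_le _ (ha3 c), sum_comm, sum_filter]
  have h2 : ∀ c d, S c d + S d c = if c = d then (2 * a c : ℂ) • G β else
      if (p : ℤ) ∣ β c - β d then -G β else 0 := fun c d => by
    split_ifs with h3 h4
    · subst h3
      simp [hS, ← Nat.cast_smul_eq_nsmul ℂ, two_mul, add_smul]
    · have h5 := sum_pair_anti (fun t => G (β - ee c (p * t) + ee d (p * t))) (a c) (a d)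
        fun t => by
          rw [← hG _ c d h3 _ h4]
          · congr 1
            obtain ⟨m, hm⟩ := h4
            have h6 : β c / p = β d / p + m := by
              rw [show β c = β d + p * m by linarith, Int.add_mul_ediv_left _ _ hp'.ne']
            ext i
            simp only [Pi.add_apply, Pi.sub_apply, Function.comp, ha1, h6]
            by_cases hc : i = c
            · subst hc; simp [ee_ne h3, ee_ne (Ne.symm h3)]; linarith
            by_cases hd : i = d
            · subst hd; simp [ee_ne h3, ee_ne (Ne.symm h3)]; linarith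
            simp [swap_apply_of_ne_of_ne hc hd, ee_ne hc, ee_ne hd]
          · intro i
            simpa [sub_add_eq_add_sub, add_sub_assoc] using
              dvd_sub (dvd_ee (dvd_mul_right _ _) d i) (dvd_ee (dvd_mul_right _ _) c i)
      simp only [hS, h4, dvd_sub_comm.1 h4, if_true]
      simp only [mul_zero, ee_zero, sub_zero, add_zero] at h5
      rw [← h5]
      congr 1
      refine sum_congr rfl fun k _ => ?_
      rw [mul_neg, ee_neg, ee_neg]
      congr 1
      abel
    · have h5 : ¬ (p : ℤ) ∣ β d - β c := fun h => h4 (dvd_sub_comm.1 h)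
      simp [hS, h4, h5]
  rw [h1, two_smul]
  nth_rw 2 [sum_comm]
  rw [← sum_add_distrib]
  simp only [← sum_add_distrib, h2]
  rw [w2, card_filter, ← univ_product_univ, sum_product]
  push_cast
  rw [mul_sum, ← sum_sub_distrib, sum_smul]
  refine sum_congr rfl fun c _ => ?_
  rw [sub_smul, sum_smul, ← ha1, eq_sub_iff_add_eq, ← sum_add_distrib,
    sum_eq_single c (fun d _ hd => ?_) (by simp)]
  · simp
  · rw [if_neg hd.symm]
    by_cases h : (p : ℤ) ∣ β c - β d <;> simp [h, hd.symm]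

end L0

end CfsgLib.SymChar
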