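import Mathlib

/-!
# Averages over the symmetric group as sums over partitions
-/

set_option autoImplicit false

namespace CfsgLib.SymChar

open Equiv Finset
open scoped Nat

/-- The order of the centralizer of a permutation with cycle lengths `m`. -/
def zz (m : Multiset ℕ) : ℕ := m.prod * ∏ k ∈ m.toFinset, (m.count k)!

theorem zz_zero : zz 0 = 1 := by simp [zz]

theorem zz_cons (j : ℕ) (m : Multiset ℕ) : zz (j ::ₘ m) = j * (m.count j + 1) * zz m := by
  have h : ∏ k ∈ (j ::ₘ m).toFinset, ((j ::ₘ m).count k)! =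
      (m.count j + 1) * ∏ k ∈ m.toFinset, (m.count k)! := by
    have h1 : ∏ k ∈ m.toFinset, (m.count k)! = ∏ k ∈ insert j m.toFinset, (m.count k)! := by
      refine prod_subset (subset_insert _ _) fun k _ hk => ?_
      rw [Multiset.count_eq_zero_of_notMem (by simpa using hk), Nat.factorial_zero]
    rw [h1, Multiset.toFinset_cons, ← mul_prod_erase _ _ (mem_insert_self j _),
      ← mul_prod_erase _ _ (mem_insert_self j _), Multiset.count_cons_self, Nat.factorial_succ,
      mul_assoc]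
    congr 2
    exact prod_congr rfl fun k hk => by rw [Multiset.count_cons_of_ne (ne_of_mem_erase hk)]
  unfold zz
  rw [h, Multiset.prod_cons]
  ring

theorem zz_ne_zero {m : Multiset ℕ} (h : ∀ k ∈ m, 0 < k) : zz m ≠ 0 := by
  induction m using Multiset.induction_on with
  | empty => simp [zz_zero]
  | cons j m ih =>
    rw [zz_cons]
    have := h j (Multiset.mem_cons_self _ _)
    have := ih fun k hk => h k (Multiset.mem_cons_of_mem hk)
    positivity

theorem zz_add_replicate {m : Multiset ℕ} (h : 1 ∉ m) (k : ℕ) :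
    zz (m + Multiset.replicate k 1) = k ! * zz m := by
  induction k with
  | zero => simp
  | succ k ih =>
    rw [Multiset.replicate_succ, Multiset.add_cons, zz_cons, ih, Multiset.count_add,
      Multiset.count_eq_zero_of_notMem h, Multiset.count_replicate_self, Nat.factorial_succ]
    ring

/-- The average over the symmetric group of degree `n` of a function of the cycle lengths. -/
noncomputable def EE (n : ℕ) (F : Multiset ℕ → ℂ) : ℂ :=
  ∑ μ : n.Partition, F μ.parts / zz μ.parts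

theorem EE_congr {n : ℕ} {F F' : Multiset ℕ → ℂ}
    (h : ∀ μ : Multiset ℕ, (∀ k ∈ μ, 0 < k) → μ.sum = n → F μ = F' μ) : EE n F = EE n F' :=
  sum_congr rfl fun μ _ => by rw [h _ (fun _ hk => μ.parts_pos hk) μ.parts_sum]

theorem EE_zero (F : Multiset ℕ → ℂ) : EE 0 F = F 0 := by
  simp [EE, zz_zero]

theorem EE_zero_fun (n : ℕ) : EE n (fun _ => 0) = 0 := by simp [EE]

theorem EE_add (n : ℕ) (F F' : Multiset ℕ → ℂ) :
    EE n (fun μ => F μ + F' μ) = EE n F + EE n F' := by
  simp [EE, add_div, sum_add_distrib]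

theorem EE_sub (n : ℕ) (F F' : Multiset ℕ → ℂ) :
    EE n (fun μ => F μ - F' μ) = EE n F - EE n F' := by
  simp [EE, sub_div]

theorem EE_mul (n : ℕ) (c : ℂ) (F : Multiset ℕ → ℂ) :
    EE n (fun μ => c * F μ) = c * EE n F := by
  simp [EE, mul_sum, mul_div_assoc]

theorem EE_sum {ι : Type*} (n : ℕ) (s : Finset ι) (F : ι → Multiset ℕ → ℂ) :
    EE n (fun μ => ∑ i ∈ s, F i μ) = ∑ i ∈ s, EE n (F i) := by
  simp only [EE, sum_div]
  exact sum_comm

theorem EE_count {n j : ℕ} (hj : 0 < j) (hjn : j ≤ n) (F : Multiset ℕ → ℂ) :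
    EE n (fun μ => (j * μ.count j : ℂ) * F μ) = EE (n - j) (fun ν => F (j ::ₘ ν)) := by
  unfold EE
  rw [← sum_filter_of_ne (p := fun μ : n.Partition => j ∈ μ.parts)]
  · symm
    refine sum_bij' (fun ν _ => (⟨j ::ₘ ν.parts, fun {k} hk => ?_, ?_⟩ : n.Partition))
      (fun μ hμ => (⟨μ.parts.erase j, fun {k} hk => μ.parts_pos (Multiset.mem_of_mem_erase hk),
        ?_⟩ : (n - j).Partition)) ?_ ?_ ?_ ?_ ?_
    · rcases Multiset.mem_cons.1 hk with rfl | hk
      exacts [hj, ν.parts_pos hk]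
    · rw [Multiset.sum_cons, ν.parts_sum]; omega
    · have h1 := Multiset.sum_erase (mem_filter.1 hμ).2
      rw [μ.parts_sum] at h1; omega
    · intro ν _; simp
    · intro μ _; simp
    · intro ν _; ext1; simp
    · intro μ hμ; ext1; exact Multiset.cons_erase (mem_filter.1 hμ).2
    · intro ν _
      have h0 : (zz ν.parts : ℂ) ≠ 0 := by
        exact_mod_cast zz_ne_zero fun k hk => ν.parts_pos hk
      have h1 : (j : ℂ) ≠ 0 := by exact_mod_cast hj.ne'
      have h2 : ((ν.parts.count j : ℂ) + 1) ≠ 0 := Nat.cast_add_one_ne_zero _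
      simp only [zz_cons, Multiset.count_cons_self]
      push_cast
      field_simp
  · intro μ _ h
    by_contra h'
    simp [Multiset.count_eq_zero_of_notMem h'] at h

theorem sum_map_eq_sum_count {n : ℕ} {μ : Multiset ℕ} (h0 : ∀ k ∈ μ, 0 < k) (hn : μ.sum = n)
    (u : ℕ → ℂ) : (μ.map u).sum = ∑ j ∈ Icc 1 n, μ.count j * u j := by
  rw [Finset.sum_multiset_map_count]
  simp only [nsmul_eq_mul]
  refine sum_subset (fun k hk => ?_) fun k _ hk => ?_
  · have hk := Multiset.mem_toFinset.1 hk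
    exact mem_Icc.2 ⟨h0 k hk, hn ▸ Multiset.single_le_sum (fun _ _ => Nat.zero_le _) k hk⟩
  · rw [Multiset.count_eq_zero_of_notMem (by simpa using hk)]; simp

/-- Removing the cycle through a random point. -/
theorem EE_rec (n : ℕ) (u : ℕ → ℂ) (F : Multiset ℕ → ℂ) :
    EE n (fun μ => (μ.map fun k => u k * k).sum * F μ) =
      ∑ j ∈ Icc 1 n, u j * EE (n - j) (fun ν => F (j ::ₘ ν)) := by
  rw [EE_congr (F' := fun μ => ∑ j ∈ Icc 1 n, u j * ((j * μ.count j : ℂ) * F μ)), EE_sum]
  · refine sum_congr rfl fun j hj => ?_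
    rw [EE_mul, EE_count (mem_Icc.1 hj).1 (mem_Icc.1 hj).2]
  · intro μ h0 hn
    rw [sum_map_eq_sum_count h0 hn, sum_mul]
    exact sum_congr rfl fun j _ => by ring

theorem mul_EE (n : ℕ) (F : Multiset ℕ → ℂ) :
    n * EE n F = ∑ j ∈ Icc 1 n, EE (n - j) (fun ν => F (j ::ₘ ν)) := by
  have := EE_rec n (fun _ => 1) F
  simp only [one_mul] at this
  rw [← this, ← EE_mul]
  refine EE_congr fun μ _ hn => ?_
  rw [← hn, Nat.cast_multiset_sum]

/-- The total length of the cycles of length divisible by `p`. -/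
def WW (p : ℕ) (μ : Multiset ℕ) : ℕ := (μ.filter (p ∣ ·)).sum

theorem WW_zero (p : ℕ) : WW p 0 = 0 := by simp [WW]

theorem WW_cons_of_dvd {p j : ℕ} (h : p ∣ j) (μ : Multiset ℕ) : WW p (j ::ₘ μ) = j + WW p μ := by
  simp [WW, Multiset.filter_cons_of_pos (p := (p ∣ ·)) _ h]

theorem WW_cons_of_not_dvd {p j : ℕ} (h : ¬ p ∣ j) (μ : Multiset ℕ) :
    WW p (j ::ₘ μ) = WW p μ := by
  simp [WW, Multiset.filter_cons_of_neg (p := (p ∣ ·)) _ h]

theorem WW_cast (p : ℕ) (μ : Multiset ℕ) :
    (WW p μ : ℂ) = (μ.map fun k => (if p ∣ k then 1 else 0 : ℂ) * k).sum := by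
  induction μ using Multiset.induction_on with
  | empty => simp [WW_zero]
  | cons j μ ih =>
    by_cases h : p ∣ j
    · simp [WW_cons_of_dvd h, ih, h]
    · simp [WW_cons_of_not_dvd h, ih, h]

theorem EE_WW (p n : ℕ) (F : Multiset ℕ → ℂ) :
    EE n (fun μ => WW p μ * F μ) =
      ∑ j ∈ (Icc 1 n).filter (p ∣ ·), EE (n - j) (fun ν => F (j ::ₘ ν)) := by
  simp only [WW_cast]
  rw [EE_rec, sum_filter]
  exact sum_congr rfl fun j _ => by split_ifs <;> simp

section Perm

variable {Ω : Type*} [Fintype Ω] [DecidableEq Ω]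

/-- The cycle lengths (fixed points included). -/
def ty (σ : Perm Ω) : Multiset ℕ := σ.partition.parts

theorem ty_pos {σ : Perm Ω} {k : ℕ} (h : k ∈ ty σ) : 0 < k := σ.partition.parts_pos h

theorem ty_sum (σ : Perm Ω) : (ty σ).sum = Fintype.card Ω := σ.partition.parts_sum

theorem ty_eq (σ : Perm Ω) :
    ty σ = σ.cycleType + Multiset.replicate (Fintype.card Ω - #σ.support) 1 := rfl

theorem ty_one : ty (1 : Perm Ω) = Multiset.replicate (Fintype.card Ω) 1 := by simp [ty_eq]

theorem isConj_iff_ty {σ τ : Perm Ω} : IsConj σ τ ↔ ty σ = ty τ := by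
  rw [Perm.partition_eq_of_isConj, Nat.Partition.ext_iff]; rfl

theorem ty_conj (σ τ : Perm Ω) : ty (τ * σ * τ⁻¹) = ty σ :=
  (isConj_iff_ty.1 (isConj_iff.2 ⟨τ, rfl⟩)).symm

theorem exists_ty {μ : Multiset ℕ} (h0 : ∀ k ∈ μ, 0 < k) (hn : μ.sum = Fintype.card Ω) :
    ∃ σ : Perm Ω, ty σ = μ := by
  have h1 : μ = μ.filter (2 ≤ ·) + Multiset.replicate (μ.count 1) 1 := by
    conv_lhs => rw [← Multiset.filter_add_not (2 ≤ ·) μ]
    congr 1
    rw [← Multiset.filter_eq']
    exact Multiset.filter_congr fun k hk => by have := h0 k hk; omega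
  have h2 : (μ.filter (2 ≤ ·)).sum + μ.count 1 = Fintype.card Ω := by
    rw [← hn]; conv_rhs => rw [h1]
    simp
  obtain ⟨σ, hσ⟩ := (Perm.exists_with_cycleType_iff Ω (m := μ.filter (2 ≤ ·))).2
    ⟨by omega, fun a ha => (Multiset.mem_filter.1 ha).2⟩
  refine ⟨σ, ?_⟩
  rw [ty_eq, ← Perm.sum_cycleType, hσ]
  conv_rhs => rw [h1]
  congr 2
  omega

theorem sign_eq_ty (σ : Perm Ω) :
    Perm.sign σ = (-1) ^ (Fintype.card Ω + Multiset.card (ty σ)) := by
  have h := card_le_univ σ.support
  rw [Perm.sign_of_cycleType, ty_eq, Perm.sum_cycleType, Multiset.card_add,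
    Multiset.card_replicate]
  have : Fintype.card Ω + (Multiset.card σ.cycleType + (Fintype.card Ω - #σ.support)) =
      #σ.support + Multiset.card σ.cycleType + 2 * (Fintype.card Ω - #σ.support) := by omega
  rw [this, pow_add _ _ (2 * _), pow_mul]
  simp

theorem card_ty_mul (σ : Perm Ω) :
    #{τ : Perm Ω | ty τ = ty σ} * zz (ty σ) = (Fintype.card Ω)! := by
  rw [← Perm.card_isConj_mul_eq σ, ty_eq σ,
    zz_add_replicate fun h => by simpa using Perm.two_le_of_mem_cycleType h,
    Perm.sum_cycleType, zz, mul_assoc (_ !)]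
  congr 1
  rw [← ty_eq, Nat.card_eq_card_toFinset]
  congr 1
  ext τ
  rw [Set.mem_toFinset, Set.mem_setOf_eq, isConj_iff_ty, mem_filter, eq_comm]
  simp

theorem sum_ty (F : Multiset ℕ → ℂ) :
    ∑ σ : Perm Ω, F (ty σ) = (Fintype.card Ω)! * EE (Fintype.card Ω) F := by
  rw [← sum_fiberwise_of_maps_to (g := fun σ : Perm Ω => σ.partition) (t := univ)
    fun _ _ => mem_univ _, EE, mul_sum]
  refine sum_congr rfl fun μ _ => ?_
  obtain ⟨σ, hσ⟩ := exists_ty (Ω := Ω) (fun _ hk => μ.parts_pos hk) μ.parts_sum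
  have h0 : (zz μ.parts : ℂ) ≠ 0 := by exact_mod_cast zz_ne_zero fun k hk => μ.parts_pos hk
  rw [sum_congr rfl (g := fun _ => F μ.parts) fun τ hτ => by rw [← (mem_filter.1 hτ).2]; rfl,
    sum_const, ← card_ty_mul σ, hσ, nsmul_eq_mul]
  have : univ.filter (fun τ : Perm Ω => τ.partition = μ) =
      univ.filter (fun τ : Perm Ω => ty τ = μ.parts) := by
    exact filter_congr fun τ _ => Nat.Partition.ext_iff
  rw [this]
  push_cast
  field_simp

/-- The length of the cycle through a point. -/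
def sz (σ : Perm Ω) (ω : Ω) : ℕ := #{ω' | σ.SameCycle ω ω'}

theorem sz_eq_period (σ : Perm Ω) (ω : Ω) : sz σ ω = MulAction.period σ ω := by
  classical
  rw [MulAction.period_eq_minimalPeriod, MulAction.minimalPeriod_eq_card, sz,
    ← Set.toFinset_card]
  congr 1
  ext ω'
  simp only [mem_filter, mem_univ, true_and, Set.mem_toFinset, MulAction.mem_orbit_iff]
  constructor
  · rintro ⟨i, hi⟩
    exact ⟨⟨σ ^ i, i, rfl⟩, hi⟩
  · rintro ⟨⟨_, i, rfl⟩, hi⟩
    exact ⟨i, hi⟩

theorem sz_pos (σ : Perm Ω) (ω : Ω) : 0 < sz σ ω :=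
  card_pos.2 ⟨ω, by simp [Perm.SameCycle.refl]⟩

theorem sz_eq_one_iff {σ : Perm Ω} {ω : Ω} : sz σ ω = 1 ↔ σ ω = ω := by
  rw [sz_eq_period, MulAction.period_eq_one_iff]; rfl

theorem sz_eq_card_support {σ : Perm Ω} {ω : Ω} (h : σ ω ≠ ω) :
    sz σ ω = #(σ.cycleOf ω).support := by
  unfold sz
  congr 1
  ext ω'
  simp [Perm.mem_support_cycleOf_iff' h]

theorem mul_count_ty (σ : Perm Ω) (j : ℕ) : j * (ty σ).count j = #{ω | sz σ ω = j} := by
  rcases Nat.lt_trichotomy j 1 with hj | rfl | hj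
  · obtain rfl : j = 0 := by omega
    symm
    simp [(sz_pos σ _).ne']
  · rw [ty_eq, Multiset.count_add, Multiset.count_eq_zero_of_notMem
      fun h => by simpa using Perm.two_le_of_mem_cycleType h, Multiset.count_replicate_self,
      ← card_compl]
    simp only [zero_add, one_mul]
    congr 1
    ext ω
    simp [sz_eq_one_iff]
  · rw [ty_eq, Multiset.count_add, Multiset.count_replicate, if_neg hj.ne, add_zero,
      Perm.cycleType_def, Multiset.count_map,
      card_eq_sum_card_fiberwise (f := fun ω => σ.cycleOf ω)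
        (t := {c ∈ σ.cycleFactorsFinset | j = #c.support})]
    · rw [sum_congr rfl (g := fun _ => j), sum_const, smul_eq_mul, mul_comm]
      · rfl
      · intro c hc
        obtain ⟨hc, hj'⟩ := mem_filter.1 hc
        rw [hj']
        congr 1
        ext ω
        simp only [mem_filter, mem_univ, true_and]
        constructor
        · rintro ⟨h1, rfl⟩
          have : σ ω ≠ ω := fun h => by rw [sz_eq_one_iff.2 h] at h1; omega
          exact (Perm.mem_support_cycleOf_iff' this).2 (Perm.SameCycle.refl _ _)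
        · intro hω
          have h1 := Perm.cycle_is_cycleOf hω hc
          have h2 : σ ω ≠ ω := Perm.mem_support.1 (Perm.mem_cycleFactorsFinset_support_le hc hω)
          exact ⟨by rw [sz_eq_card_support h2, ← h1], h1.symm⟩
    · intro ω hω
      have h1 : sz σ ω = j := (mem_filter.1 (mem_coe.1 hω)).2
      have : σ ω ≠ ω := fun h => by rw [sz_eq_one_iff.2 h] at h1; omega
      simp only [coe_filter, Set.mem_setOf_eq]
      exact ⟨Perm.cycleOf_mem_cycleFactorsFinset_iff.2 (Perm.mem_support.2 this),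
        by rw [← sz_eq_card_support this, h1]⟩

theorem ty_eq_map {Q : Type*} [Fintype Q] [DecidableEq Q] (σ : Perm Ω) (q : Ω → Q)
    (hq : Function.Surjective q) (h : ∀ a b, q a = q b ↔ σ.SameCycle a b) :
    ty σ = (univ : Finset Q).val.map fun c => #{ω | q ω = c} := by
  have hs : ∀ ω, #{ω' | q ω' = q ω} = sz σ ω := fun ω => by
    unfold sz; congr 1; ext ω'; simp [h, Perm.sameCycle_comm]
  ext j
  rcases Nat.eq_zero_or_pos j with rfl | hj
  · rw [Multiset.count_eq_zero_of_notMem fun h => (ty_pos h).false,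
      Multiset.count_eq_zero_of_notMem]
    intro h'
    obtain ⟨c, -, hc⟩ := Multiset.mem_map.1 h'
    obtain ⟨ω, rfl⟩ := hq c
    exact (sz_pos σ ω).ne' (by rw [← hs, hc])
  refine Nat.eq_of_mul_eq_mul_left hj ?_
  rw [mul_count_ty, Multiset.count_map,
    card_eq_sum_card_fiberwise (f := q) (t := {c | j = #{ω | q ω = c}})]
  · rw [sum_congr rfl (g := fun _ => j), sum_const, smul_eq_mul, mul_comm]
    · rfl
    · intro c hc
      have hc := (mem_filter.1 hc).2
      conv_rhs => rw [hc]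
      congr 1
      ext ω
      simp only [mem_filter, mem_univ, true_and, and_iff_right_iff_imp]
      rintro rfl
      rw [hc, hs]
  · intro ω hω
    have h1 : sz σ ω = j := (mem_filter.1 (mem_coe.1 hω)).2
    simp only [coe_filter, Set.mem_setOf_eq, mem_univ, true_and]
    rw [hs, h1]

theorem WW_ty (p : ℕ) (σ : Perm Ω) : WW p (ty σ) = #{ω | p ∣ sz σ ω} := by
  rw [card_eq_sum_card_fiberwise (f := sz σ) (t := (ty σ).toFinset.filter (p ∣ ·)), WW,
    Finset.sum_multiset_count, Multiset.toFinset_filter]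
  · refine sum_congr rfl fun j hj => ?_
    have hj := (mem_filter.1 hj).2
    rw [Multiset.count_filter_of_pos (p := (p ∣ ·)) hj, smul_eq_mul, mul_comm, mul_count_ty]
    congr 1
    ext ω
    simp only [mem_filter, mem_univ, true_and, iff_and_self]
    rintro rfl
    exact hj
  · intro ω hω
    simp only [coe_filter, Set.mem_setOf_eq, mem_univ, true_and, Multiset.mem_toFinset] at hω ⊢
    refine ⟨?_, hω⟩
    by_contra h
    have := mul_count_ty σ (sz σ ω)
    rw [Multiset.count_eq_zero_of_notMem h, mul_zero, eq_comm, card_eq_zero] at this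
    exact (this ▸ notMem_empty ω) (by simp)

theorem dvd_orderOf_iff_WW {p : ℕ} (hp : p.Prime) (σ : Perm Ω) :
    p ∣ orderOf σ ↔ WW p (ty σ) ≠ 0 := by
  rw [WW_ty, card_ne_zero]
  constructor
  · intro h
    by_contra h'
    simp only [not_nonempty_iff_eq_empty, filter_eq_empty_iff, mem_univ, true_imp_iff] at h'
    have h1 : orderOf σ ∣ ∏ ω, sz σ ω := by
      refine orderOf_dvd_of_pow_eq_one (Perm.ext fun ω => ?_)
      exact MulAction.pow_smul_eq_iff_period_dvd.2
        (sz_eq_period σ ω ▸ dvd_prod_of_mem (sz σ) (mem_univ ω))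
    obtain ⟨ω, -, hω⟩ := (Prime.dvd_finset_prod_iff hp.prime _).1 (h.trans h1)
    exact h' hω
  · rintro ⟨ω, hω⟩
    exact ((mem_filter.1 hω).2).trans (sz_eq_period σ ω ▸ MulAction.period_dvd_orderOf σ ω)

end Perm

end CfsgLib.SymChar
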