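import Mathlib
import Cfsg.Agent.Lib.SymChar.Part
import Cfsg.Agent.Lib.SymChar.Hook

/-!
# Frobenius' character formula: alternants, the Murnaghan–Nakayama recursion, orthonormality
-/

set_option autoImplicit false

namespace CfsgLib.SymChar

open Equiv Finset
open scoped Nat ComplexConjugate

variable {N p : ℕ} {β β' : Fin N → ℤ}

/-- The sign as a complex number. -/
def sg (π : Perm (Fin N)) : ℂ := ((Perm.sign π : ℤ) : ℂ)

@[simp] theorem sg_one : sg (1 : Perm (Fin N)) = 1 := by simp [sg]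

theorem sg_mul (π ρ : Perm (Fin N)) : sg (π * ρ) = sg π * sg ρ := by simp [sg]

theorem sg_inv (π : Perm (Fin N)) : sg π⁻¹ = sg π := by simp [sg]

theorem sg_swap {c d : Fin N} (h : c ≠ d) : sg (swap c d) = -1 := by simp [sg, h]

theorem sg_eq (π : Perm (Fin N)) : sg π = 1 ∨ sg π = -1 := by
  rcases Int.units_eq_one_or (Perm.sign π) with h | h <;> simp [sg, h]

theorem sg_mul_self (π : Perm (Fin N)) : sg π * sg π = 1 := by
  rcases sg_eq π with h | h <;> simp [h]

theorem conj_sg (π : Perm (Fin N)) : conj (sg π) = sg π := by simp [sg]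

/-- The coefficient of `β'` in the alternant of `β`. -/
noncomputable def DD (β β' : Fin N → ℤ) : ℂ := ∑ π : Perm (Fin N), if β ∘ π = β' then sg π else 0

theorem conj_DD (β β' : Fin N → ℤ) : conj (DD β β') = DD β β' := by
  simp only [DD, map_sum]
  exact sum_congr rfl fun π _ => by split_ifs <;> simp [conj_sg]

theorem DD_comp_right (β β' : Fin N → ℤ) (ρ : Perm (Fin N)) :
    DD β (β' ∘ ρ) = sg ρ * DD β β' := by
  rw [DD, DD, mul_sum, ← Equiv.sum_comp (Equiv.mulRight ρ)]
  refine sum_congr rfl fun π _ => ?_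
  have : β ∘ ⇑(π * ρ) = β' ∘ ρ ↔ β ∘ π = β' := by
    rw [Perm.coe_mul, ← Function.comp_assoc, ρ.surjective.right_cancellable]
  simp only [Equiv.coe_mulRight, this, sg_mul]
  split_ifs <;> ring

theorem DD_comm (β β' : Fin N → ℤ) : DD β β' = DD β' β := by
  rw [DD, DD, ← Equiv.sum_comp (Equiv.inv _)]
  refine sum_congr rfl fun π _ => ?_
  have : β ∘ ⇑(π⁻¹) = β' ↔ β' ∘ π = β := by
    constructor <;> rintro rfl <;> ext i <;> simp
  simp only [Equiv.inv_apply, this, sg_inv]

theorem DD_comp_left (β β' : Fin N → ℤ) (ρ : Perm (Fin N)) :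
    DD (β ∘ ρ) β' = sg ρ * DD β β' := by
  rw [DD_comm, DD_comp_right, DD_comm]

theorem DD_self (h : Function.Injective β) : DD β β = 1 := by
  rw [DD, sum_eq_single 1]
  · simp
  · intro π _ hπ
    exact if_neg fun h' => hπ (Perm.ext fun i => h (congrFun h' i))
  · simp

theorem exists_of_DD (h : DD β β' ≠ 0) : ∃ π : Perm (Fin N), β' = β ∘ π := by
  obtain ⟨π, -, hπ⟩ := exists_ne_zero_of_sum_ne_zero h
  exact ⟨π, (by_contra fun h' => hπ (if_neg h') : β ∘ π = β').symm⟩

theorem eq_zero_of_anti {V : Type*} [AddCommGroup V] [Module ℂ V] {G : (Fin N → ℤ) → V}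
    {c d : Fin N} (h : β c = β d) (hG : G (β ∘ swap c d) = -G β) : G β = 0 := by
  have : β ∘ swap c d = β := by
    ext i; simp only [Function.comp, swap_apply_def]; split_ifs <;> simp_all
  rw [this] at hG
  have h3 : (2 : ℂ) • G β = 0 := by rw [two_smul]; nth_rw 1 [hG]; simp
  simpa using h3

theorem DD_of_not_inj (h : ¬ Function.Injective β) (β' : Fin N → ℤ) : DD β β' = 0 := by
  obtain ⟨c, d, h1, h2⟩ := Function.not_injective_iff.1 h
  exact eq_zero_of_anti (G := fun β => DD β β') h1 (by simp [DD_comp_left, sg_swap h2])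

theorem sum_DD_sub (β β' : Fin N → ℤ) (k : ℤ) :
    ∑ d, DD β (β' - ee d k) = ∑ d, DD (β + ee d k) β' := by
  simp only [DD]
  rw [sum_comm, sum_comm (s := univ) (t := (univ : Finset (Perm (Fin N))))]
  refine sum_congr rfl fun π _ => ?_
  rw [← Equiv.sum_comp π (fun d => if (β + ee d k) ∘ π = β' then sg π else 0)]
  refine sum_congr rfl fun d _ => ?_
  simp only [Pi.add_comp, ee_comp, eq_sub_iff_add_eq]

/-- Laurent polynomials. -/
abbrev LP (N : ℕ) := AddMonoidAlgebra ℂ (Fin N → ℤ)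

/-- Power sums. -/
noncomputable def ps (N k : ℕ) : LP N := ∑ i, AddMonoidAlgebra.single (ee i k) 1

/-- Alternants. -/
noncomputable def alt (β : Fin N → ℤ) : LP N :=
  ∑ π : Perm (Fin N), AddMonoidAlgebra.single (β ∘ π) (sg π)

theorem coeff_alt (β β' : Fin N → ℤ) : (alt β).coeff β' = DD β β' := by
  simp [alt, DD, AddMonoidAlgebra.coeff_sum, Finsupp.single_apply]

/-- The value of the character with beta-numbers `β` at cycle lengths `μ`. -/
noncomputable def XX (β : Fin N → ℤ) (μ : Multiset ℕ) : ℂ :=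
  (alt (del N) * (μ.map (ps N)).prod).coeff β

theorem XX_zero (β : Fin N → ℤ) : XX β 0 = DD (del N) β := by simp [XX, coeff_alt]

/-- The Murnaghan–Nakayama recursion. -/
theorem XX_cons (β : Fin N → ℤ) (k : ℕ) (μ : Multiset ℕ) :
    XX β (k ::ₘ μ) = ∑ c, XX (β - ee c k) μ := by
  simp only [XX, Multiset.map_cons, Multiset.prod_cons]
  rw [mul_comm (ps N k), ← mul_assoc, ps, mul_sum, AddMonoidAlgebra.coeff_sum,
    Finsupp.finset_sum_apply]
  simp [AddMonoidAlgebra.coeff_mul_single_apply, sub_eq_add_neg]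

theorem conj_XX (β : Fin N → ℤ) (μ : Multiset ℕ) : conj (XX β μ) = XX β μ := by
  induction μ using Multiset.induction_on generalizing β with
  | empty => rw [XX_zero, conj_DD]
  | cons k μ ih => simp only [XX_cons, map_sum, ih]

theorem XX_comp (β : Fin N → ℤ) (π : Perm (Fin N)) (μ : Multiset ℕ) :
    XX (β ∘ π) μ = sg π * XX β μ := by
  induction μ using Multiset.induction_on generalizing β with
  | empty => rw [XX_zero, XX_zero, DD_comp_right]
  | cons k μ ih =>
    rw [XX_cons, XX_cons, mul_sum, ← Equiv.sum_comp π (fun c => sg π * XX (β - ee c k) μ)]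
    exact sum_congr rfl fun c _ => by rw [← ih, Pi.sub_comp, ee_comp]

theorem XX_of_not_inj (h : ¬ Function.Injective β) (μ : Multiset ℕ) : XX β μ = 0 := by
  obtain ⟨c, d, h1, h2⟩ := Function.not_injective_iff.1 h
  exact eq_zero_of_anti (G := fun β => XX β μ) h1 (by simp [XX_comp, sg_swap h2])

theorem nn_of_XX {μ : Multiset ℕ} (h : XX β μ ≠ 0) : (∀ i, 0 ≤ β i) ∧ lvl β = μ.sum := by
  induction μ using Multiset.induction_on generalizing β with
  | empty =>
    rw [XX_zero] at h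
    obtain ⟨π, rfl⟩ := exists_of_DD h
    exact ⟨fun _ => good_del.nn _, by simp [lvl_comp, lvl_del]⟩
  | cons k μ ih =>
    rw [XX_cons] at h
    obtain ⟨c, -, hc⟩ := exists_ne_zero_of_sum_ne_zero h
    obtain ⟨h1, h2⟩ := ih hc
    refine ⟨fun i => ?_, by rw [lvl_sub_ee] at h2; simp only [Multiset.sum_cons]; omega⟩
    have := h1 i
    simp only [Pi.sub_apply, ee_apply] at this
    split_ifs at this <;> omega

theorem good_of_XX {μ : Multiset ℕ} (h : XX β μ ≠ 0) : Good β :=
  ⟨by_contra fun h' => h (XX_of_not_inj h' μ), (nn_of_XX h).1⟩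

theorem XX_of_not_good (h : ¬ Good β) (μ : Multiset ℕ) : XX β μ = 0 :=
  by_contra fun h' => h (good_of_XX h')

theorem le_of_nn (h : ∀ i, 0 ≤ β i) (i : Fin N) : β i ≤ lvl β + ∑ i, del N i := by
  rw [lvl, sub_add_cancel]
  exact single_le_sum (fun i _ => h i) (mem_univ i)

theorem nn_sub_ee {c : Fin N} {k : ℤ} (h : ∀ i, 0 ≤ β i) (hk : k ≤ β c) (i : Fin N) :
    0 ≤ (β - ee c k) i := by
  simp only [Pi.sub_apply, ee_apply]
  split_ifs with hi
  · subst hi; omega
  · simpa using h i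

theorem nn_of_sub_ee {c : Fin N} {k : ℤ} (hk : 0 ≤ k) (h : ∀ i, 0 ≤ (β - ee c k) i) :
    (∀ i, 0 ≤ β i) ∧ k ≤ β c := by
  refine ⟨fun i => ?_, by simpa using h c⟩
  have := h i
  simp only [Pi.sub_apply, ee_apply] at this
  split_ifs at this <;> omega

theorem nn_add_ee {c : Fin N} {k : ℤ} (h : ∀ i, 0 ≤ β i) (hk : 0 ≤ k) (i : Fin N) :
    0 ≤ (β + ee c k) i := by
  have := h i
  simp only [Pi.add_apply, ee_apply]
  split_ifs <;> omega

theorem EE_XX_cons (n j : ℕ) (f : Multiset ℕ → ℂ) (β β' : Fin N → ℤ) :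
    EE n (fun ν => f ν * (XX β (j ::ₘ ν) * XX β' (j ::ₘ ν))) =
      ∑ c, ∑ d, EE n (fun ν => f ν * (XX (β - ee c j) ν * XX (β' - ee d j) ν)) := by
  simp only [XX_cons, sum_mul_sum]
  simp only [mul_sum, EE_sum]

open Classical in
/-- Orthonormality. -/
theorem EE_XX (n : ℕ) (β β' : Fin N → ℤ) : EE n (fun μ => XX β μ * XX β' μ) =
    if (∀ i, 0 ≤ β i) ∧ lvl β = n then DD β β' else 0 := by
  induction n using Nat.strong_induction_on generalizing β β' with
  | _ n ih =>
  split_ifs with hc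
  swap
  · rw [← EE_zero_fun n]
    refine EE_congr fun μ _ hμ => ?_
    rw [show XX β μ = 0 from by_contra fun h => hc (hμ ▸ nn_of_XX h), zero_mul]
  by_cases hinj : Function.Injective β
  swap
  · rw [DD_of_not_inj hinj, ← EE_zero_fun n]
    exact EE_congr fun μ _ _ => by rw [XX_of_not_inj hinj, zero_mul]
  rcases Nat.eq_zero_or_pos n with rfl | hn
  · obtain ⟨π, rfl⟩ := Good.exists_perm_del ⟨hinj, hc.1⟩ hc.2
    rw [EE_zero, XX_zero, XX_zero, DD_comp_right, DD_self good_del.inj, DD_comp_left, mul_one]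
  have hn' : (n : ℂ) ≠ 0 := by exact_mod_cast hn.ne'
  refine mul_left_cancel₀ hn' ?_
  set K := n + (∑ i, del N i).toNat with hK
  have h1 := sum_down_up (β := β) one_pos (fun γ => DD γ β') hc.1 (K := K)
    (fun i => by have := le_of_nn hc.1 i; omega)
    (fun γ c d h _ _ => by simp [DD_comp_left, sg_swap h])
  simp only [w2_one, hc.2, Nat.cast_one, one_mul, one_dvd, filter_true, smul_eq_mul] at h1
  push_cast at h1
  rw [mul_assoc, mul_right_inj' two_ne_zero] at h1
  rw [← h1, mul_EE, ← sum_subset (Icc_subset_Icc_right (Nat.le_add_right n _))]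
  · refine sum_congr rfl fun j hj => ?_
    obtain ⟨hj1, hj2⟩ := mem_Icc.1 hj
    have h2 := EE_XX_cons (n - j) j (fun _ => 1) β β'
    simp only [one_mul] at h2
    rw [h2]
    refine sum_congr rfl fun c _ => ?_
    simp only [ih (n - j) (by omega)]
    by_cases h3 : (j : ℤ) ≤ β c
    · rw [if_pos h3, ← sum_DD_sub]
      exact sum_congr rfl fun d _ => if_pos ⟨nn_sub_ee hc.1 h3, by rw [lvl_sub_ee]; omega⟩
    · rw [if_neg h3]
      exact sum_eq_zero fun d _ => if_neg fun h => h3 (nn_of_sub_ee (by omega) h.1).2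
  · intro j hj hj'
    refine sum_eq_zero fun c _ => ?_
    split_ifs with h3
    · rw [← sum_DD_sub]
      refine sum_eq_zero fun d _ => DD_of_not_inj (fun h => ?_) _
      have := Good.lvl_nonneg ⟨h, nn_sub_ee hc.1 h3⟩
      rw [lvl_sub_ee] at this
      simp only [mem_Icc] at hj hj'
      omega
    · rfl

theorem EE_XX_self {n : ℕ} (h : Good β) (hn : lvl β = n) :
    EE n (fun μ => XX β μ * XX β μ) = 1 := by
  rw [EE_XX, if_pos ⟨h.nn, hn⟩, DD_self h.inj]

/-- Same core. -/
def Sim (p : ℕ) (β β' : Fin N → ℤ) : Prop :=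
  ∃ π : Perm (Fin N), ∀ i, (p : ℤ) ∣ β' i - β (π i)

theorem sim_of_dvd (h : ∀ i, (p : ℤ) ∣ β' i - β i) : Sim p β β' := ⟨1, h⟩

theorem sim_refl (β : Fin N → ℤ) : Sim p β β := sim_of_dvd (by simp)

theorem sim_comp (β : Fin N → ℤ) (π : Perm (Fin N)) : Sim p β (β ∘ π) := ⟨π, by simp⟩

theorem Sim.symm (h : Sim p β β') : Sim p β' β := by
  obtain ⟨π, h⟩ := h
  exact ⟨π⁻¹, fun i => dvd_sub_comm.1 (by simpa using h (π⁻¹ i))⟩

theorem Sim.trans {β'' : Fin N → ℤ} (h : Sim p β β') (h' : Sim p β' β'') : Sim p β β'' := by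
  obtain ⟨π, h⟩ := h
  obtain ⟨ρ, h'⟩ := h'
  exact ⟨π * ρ, fun i => by simpa using dvd_add (h' i) (h (ρ i))⟩

theorem sim_sub_ee (β : Fin N → ℤ) (c : Fin N) {k : ℤ} (h : (p : ℤ) ∣ k) :
    Sim p β (β - ee c k) := sim_of_dvd fun i => by simpa using dvd_ee h c i

theorem Sim.hk_eq (hp : 0 < p) (h : Sim p β β') (hβ : Good β) (hβ' : Good β')
    (hl : lvl β' = lvl β) : hk p β' = hk p β := by
  obtain ⟨π, h⟩ := h
  rw [← hk_comp p β π]
  exact hk_eq_of_lvl (k := 0) hp (hβ.comp π) hβ' h (by simp [lvl_comp, hl])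

/-- Characters with different cores are orthogonal on `p`-sections. -/
theorem EE_WW_XX_eq_zero (n : ℕ) (f : ℕ → ℂ) (h : ¬ Sim p β β') :
    EE n (fun μ => f (WW p μ) * (XX β μ * XX β' μ)) = 0 := by
  induction n using Nat.strong_induction_on generalizing β β' f with
  | _ n ih =>
  rw [EE_congr (F' := fun μ => f 0 * (XX β μ * XX β' μ) +
    WW p μ * ((f (WW p μ) - f 0) / WW p μ * (XX β μ * XX β' μ))), EE_add, EE_mul, EE_XX, EE_WW]
  · have h0 : DD β β' = 0 := by
      by_contra h1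
      obtain ⟨π, rfl⟩ := exists_of_DD h1
      exact h (sim_comp β π)
    rw [h0, ite_self, mul_zero, zero_add]
    refine sum_eq_zero fun j hj => ?_
    obtain ⟨hj, hpj⟩ := mem_filter.1 hj
    simp only [WW_cons_of_dvd hpj]
    rw [EE_XX_cons]
    refine sum_eq_zero fun c _ => sum_eq_zero fun d _ => ?_
    have hpj' : (p : ℤ) ∣ j := by exact_mod_cast hpj
    exact ih (n - j) (by have := mem_Icc.1 hj; omega) (fun t => (f (j + t) - f 0) / (j + t : ℕ))
      fun h' => h (((sim_sub_ee β c hpj').trans h').trans (sim_sub_ee β' d hpj').symm)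
  · intro μ _ _
    rcases Nat.eq_zero_or_pos (WW p μ) with h0 | h0
    · simp [h0]
    · have : (WW p μ : ℂ) ≠ 0 := by exact_mod_cast h0.ne'
      field_simp
      ring

theorem eq_of_DD_move (hp : 0 < p) {ζ : Fin N → ℤ} {a b c d : Fin N} {j : ℕ}
    (ha : Good (ζ + ee a p)) (hb : Good (ζ + ee b p)) (hab : ¬ (p : ℤ) ∣ ζ a - ζ b) (hj : p ∣ j)
    (h : DD (ζ + ee a p - ee c j) (ζ + ee b p - ee d j) ≠ 0) : j = p ∧ c = a ∧ d = b := by
  obtain ⟨π, hπ⟩ := exists_of_DD h
  have hp' : (0 : ℤ) < p := by exact_mod_cast hp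
  have hj' : (p : ℤ) ∣ j := by exact_mod_cast hj
  have hab' : a ≠ b := by rintro rfl; simp at hab
  have key : ∀ x : ℤ, (if (p : ℤ) ∣ x - ζ b then (p : ℤ) else 0) -
      (if (p : ℤ) ∣ x - ζ d then (j : ℤ) else 0) = (if (p : ℤ) ∣ x - ζ a then (p : ℤ) else 0) -
      (if (p : ℤ) ∣ x - ζ c then (j : ℤ) else 0) := fun x => by
    have h1 : ∀ a c, ∑ i, (if (p : ℤ) ∣ x - (ζ + ee a p - ee c j) i then
        (ζ + ee a p - ee c j) i else 0) = ∑ i, (if (p : ℤ) ∣ x - ζ i then ζ i else 0) +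
        (if (p : ℤ) ∣ x - ζ a then (p : ℤ) else 0) -
        (if (p : ℤ) ∣ x - ζ c then (j : ℤ) else 0) := fun a c => by
      have h2 : ∀ (a : Fin N) (k : ℤ), (if (p : ℤ) ∣ x - ζ a then k else 0) =
          ∑ i, if (p : ℤ) ∣ x - ζ i then ee a k i else 0 := fun a k => by
        rw [sum_eq_single a (fun i _ hi => by simp [ee_ne hi]) (by simp), ee_self]
      rw [h2, h2, ← sum_add_distrib, ← sum_sub_distrib]
      refine sum_congr rfl fun i _ => ?_
      have : x - (ζ + ee a p - ee c j) i = x - ζ i + (ee c j i - ee a p i) := by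
        simp only [Pi.add_apply, Pi.sub_apply]; ring
      simp only [this, dvd_add_left (dvd_sub (dvd_ee hj' c i) (dvd_ee dvd_rfl a i))]
      split_ifs <;> simp
    have h3 := h1 b d
    rw [hπ] at h3
    simp only [Function.comp] at h3
    rw [Equiv.sum_comp π (fun i => if (p : ℤ) ∣ x - (ζ + ee a p - ee c j) i then
        (ζ + ee a p - ee c j) i else 0), h1] at h3
    linarith
  have h1 := key (ζ b)
  have h2 := key (ζ a)
  simp only [sub_self, dvd_zero, if_true, hab, if_false, mt dvd_sub_comm.1 hab] at h1 h2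
  have hjp : j = p := by
    obtain ⟨k, rfl⟩ := hj
    push_cast at h1
    have : (p : ℤ) * k = p := by
      split_ifs at h1 <;> first | omega | nlinarith [Int.natCast_nonneg k]
    exact_mod_cast this
  subst hjp
  have hc : (j : ℤ) ∣ ζ a - ζ c := by by_contra h'; simp only [h', if_false] at h2; split_ifs at h2 <;> omega
  have hd : (j : ℤ) ∣ ζ b - ζ d := by by_contra h'; simp only [h', if_false] at h1; split_ifs at h1 <;> omega
  have hca : c = a := by
    by_contra h'
    obtain ⟨i, hi⟩ := π.surjective a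
    have h3 := congrFun hπ i
    simp only [Pi.add_apply, Pi.sub_apply, Function.comp, hi, ee_self, ee_ne (Ne.symm h')] at h3
    have h4 : (j : ℤ) ∣ ζ a - ζ i := by
      have : ζ a - ζ i = ee b j i - ee d j i - j := by linarith
      exact this ▸ dvd_sub (dvd_sub (dvd_ee dvd_rfl _ _) (dvd_ee dvd_rfl _ _)) dvd_rfl
    have h5 : i ≠ b := fun h => hab (h ▸ h4)
    have h6 : i ≠ d := fun h => hab (by simpa using dvd_sub (show (j : ℤ) ∣ ζ a - ζ d from h ▸ h4) hd)
    rw [ee_ne h5, ee_ne h6] at h3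
    have h7 : i ≠ a := fun h => by rw [h] at h3; omega
    exact h7 (ha.inj (by simp only [Pi.add_apply, ee_ne h7, ee_self]; linarith))
  subst hca
  refine ⟨rfl, rfl, ?_⟩
  by_contra h'
  have h3 := congrFun hπ b
  simp only [Pi.add_apply, Pi.sub_apply, Function.comp, ee_self, ee_ne (Ne.symm h'),
    add_sub_cancel_right, sub_zero] at h3
  have h7 : π b ≠ b := fun h => by rw [h] at h3; omega
  exact h7 (hb.inj (by simp only [Pi.add_apply, ee_ne h7, ee_self]; linarith))

/-- Moving a box from one runner to another. -/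
theorem EE_WW_move (hp : 0 < p) {n : ℕ} {ζ : Fin N → ℤ} {a b : Fin N} (hζ : Good ζ)
    (hn : lvl ζ + p = n) (ha : Good (ζ + ee a p)) (hb : Good (ζ + ee b p))
    (hab : ¬ (p : ℤ) ∣ ζ a - ζ b) :
    EE n (fun μ => WW p μ * (XX (ζ + ee a p) μ * XX (ζ + ee b p) μ)) = 1 := by
  have h0 := hζ.lvl_nonneg
  have h2 : ∀ j, EE (n - j) (fun ν => XX (ζ + ee a p) (j ::ₘ ν) * XX (ζ + ee b p) (j ::ₘ ν)) =
      _ := fun j => by simpa only [one_mul] using EE_XX_cons (n - j) j (fun _ => 1) _ _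
  have h3 : ∀ j c d, p ∣ j → ¬ (j = p ∧ c = a ∧ d = b) → EE (n - j)
      (fun ν => XX (ζ + ee a p - ee c j) ν * XX (ζ + ee b p - ee d j) ν) = 0 :=
    fun j c d hj h => by
      rw [EE_XX, show DD _ _ = 0 from by_contra fun h' => h (eq_of_DD_move hp ha hb hab hj h'),
        ite_self]
  rw [EE_WW, sum_eq_single p, h2, sum_eq_single a, sum_eq_single b]
  · simp only [add_sub_cancel_right]
    exact EE_XX_self hζ (by omega)
  · exact fun d _ hd => h3 _ _ _ dvd_rfl fun h => hd h.2.2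
  · simp
  · exact fun c _ hc => sum_eq_zero fun d _ => h3 _ _ _ dvd_rfl fun h => hc h.2.1
  · simp
  · intro j hj hjp
    rw [h2]
    exact sum_eq_zero fun c _ => sum_eq_zero fun d _ => h3 _ _ _ (mem_filter.1 hj).2
      fun h => hjp h.1
  · intro h
    exact absurd (mem_filter.2 ⟨mem_Icc.2 ⟨hp, by omega⟩, dvd_rfl⟩) h

theorem WW_le_of_XX (hp : 0 < p) {μ : Multiset ℕ} (h : XX β μ ≠ 0) : WW p μ ≤ p * hk p β := by
  rw [← Multiset.filter_add_not (p ∣ ·) μ] at h
  have h1 : ∀ k ∈ μ.filter (p ∣ ·), p ∣ k := fun k hk => (Multiset.mem_filter.1 hk).2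
  unfold WW
  generalize μ.filter (p ∣ ·) = ν at h h1
  induction ν using Multiset.induction_on generalizing β with
  | empty => simp
  | cons k ν ih =>
    have hβ := good_of_XX h
    rw [Multiset.cons_add, XX_cons] at h
    obtain ⟨c, -, hc⟩ := exists_ne_zero_of_sum_ne_zero h
    obtain ⟨k, rfl⟩ := h1 k (Multiset.mem_cons_self _ _)
    have h2 := ih hc fun k hk => h1 k (Multiset.mem_cons_of_mem hk)
    have h3 := hk_down hp hβ (c := c) (k := k) (by simpa using good_of_XX hc)
    push_cast at h2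
    rw [Multiset.sum_cons, h3, mul_add]
    omega

/-- Removing `p`-hooks down to the core. -/
theorem exists_XX_replicate (hp : 0 < p) (h : Good β) (ρ : Multiset ℕ) :
    ∃ m : ℕ, 0 < m ∧ XX β (Multiset.replicate (hk p β) p + ρ) = m * XX (pack p β) ρ := by
  induction hw : hk p β generalizing β with
  | zero => exact ⟨1, one_pos, by simp [h.pack_eq hp hw]⟩
  | succ w ih =>
    have h1 : ∀ c, ∃ m : ℕ, (Good (β - ee c p) → 0 < m) ∧
        XX (β - ee c p) (Multiset.replicate w p + ρ) = m * XX (pack p β) ρ := fun c => by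
      by_cases hc : Good (β - ee c p)
      · obtain ⟨m, h1, h2⟩ := ih hc (by have := hk_down_one hp h hc; omega)
        exact ⟨m, fun _ => h1, by rw [h2, pack_down h hc]⟩
      · exact ⟨0, fun h => absurd h hc, by simp [XX_of_not_good hc]⟩
    choose m hm hm' using h1
    obtain ⟨c, hc⟩ := h.exists_down (p := p) (by omega)
    refine ⟨∑ c, m c, sum_pos' (fun _ _ => Nat.zero_le _) ⟨c, mem_univ _, hm c hc⟩, ?_⟩
    rw [Multiset.replicate_succ, Multiset.cons_add, XX_cons]
    simp [hm', sum_mul]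

/-- Adding `j`-hooks is adjoint to removing them. -/
theorem EE_sum_add_ee {n j : ℕ} (hj : 0 < j) (h : ∀ i, 0 ≤ β i) (β' : Fin N → ℤ) :
    EE n (fun μ => (∑ c, XX (β + ee c j) μ) * XX β' μ) =
      EE n (fun μ => (j * μ.count j : ℂ) * (XX β (μ.erase j) * XX β' μ)) := by
  simp only [sum_mul, EE_sum, EE_XX, lvl_add_ee]
  by_cases hjn : j ≤ n
  · rw [EE_count hj hjn]
    simp only [Multiset.erase_cons_head, XX_cons, mul_sum, EE_sum, EE_XX]
    by_cases hl : lvl β + j = n
    · rw [sum_congr rfl fun c _ => if_pos ⟨nn_add_ee h (by omega), hl⟩,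
        sum_congr rfl fun c _ => if_pos ⟨h, by omega⟩, sum_DD_sub]
    · rw [sum_eq_zero fun c _ => if_neg fun h => hl h.2,
        sum_eq_zero fun c _ => if_neg fun h => hl (by omega)]
  · rw [EE_congr (F' := fun _ => 0), EE_zero_fun]
    · by_cases hl : lvl β + j = n
      · rw [sum_congr rfl fun c _ => if_pos ⟨nn_add_ee h (by omega), hl⟩, ← sum_DD_sub]
        refine sum_eq_zero fun d _ => DD_of_not_inj (fun h' => ?_) _
        have := Good.lvl_nonneg ⟨h', h⟩
        omega
      · exact sum_eq_zero fun c _ => if_neg fun h => hl h.2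
    · intro μ _ hμ
      rw [Multiset.count_eq_zero_of_notMem fun h' => hjn
        (hμ ▸ Multiset.single_le_sum (fun _ _ => Nat.zero_le _) j h')]
      simp

end CfsgLib.SymChar
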