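import Mathlib
import Cfsg.Agent.Lib.SymChar.Alt
import Cfsg.Agent.Lib.Char.Ortho
import Cfsg.Prelude.Def_Blocks

/-!
# The irreducible characters of the symmetric groups; the hook formula
-/

set_option autoImplicit false

namespace CfsgLib.SymChar

open Equiv Finset Cfsg CfsgLib.Char
open scoped Nat ComplexConjugate

variable {N p : ℕ} {β β' : Fin N → ℤ}

section Degree

/-- `∏ 1 / α i !`. -/
noncomputable def YY (α : Fin N → ℤ) : ℂ := ∏ i, if 0 ≤ α i then ((α i).toNat ! : ℂ)⁻¹ else 0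

theorem YY_sub_ee (α : Fin N → ℤ) (c : Fin N) : YY (α - ee c 1) = α c * YY α := by
  unfold YY
  rw [← mul_prod_erase _ _ (mem_univ c), ← mul_prod_erase _ _ (mem_univ c), ← mul_assoc]
  congr 1
  · simp only [Pi.sub_apply, ee_self]
    rcases lt_trichotomy (α c) 0 with h | h | h
    · rw [if_neg (by omega), if_neg (by omega), mul_zero]
    · simp [h]
    · obtain ⟨k, hk⟩ : ∃ k : ℕ, α c = k + 1 := ⟨(α c - 1).toNat, by omega⟩
      have h1 : ((k : ℤ) + 1).toNat = k + 1 := by omega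
      have h2 : ((k : ℂ) + 1) ≠ 0 := Nat.cast_add_one_ne_zero _
      rw [if_pos (by omega), if_pos h.le, hk, h1, Nat.factorial_succ]
      simp only [add_sub_cancel_right, Int.toNat_natCast]
      push_cast
      field_simp
  · exact prod_congr rfl fun i hi => by simp [ee_ne (ne_of_mem_erase hi)]

theorem YY_of_sum_eq_zero {α : Fin N → ℤ} (h : ∑ i, α i = 0) : YY α = if α = 0 then 1 else 0 := by
  split_ifs with h1
  · simp [YY, h1]
  · by_contra h2
    refine h1 (funext fun i => (sum_eq_zero_iff_of_nonneg fun i _ => ?_).1 h i (mem_univ _))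
    by_contra h3
    exact h2 (prod_eq_zero (mem_univ i) (if_neg h3))

theorem sum_sub_del (β : Fin N → ℤ) (π : Perm (Fin N)) : ∑ i, (β - del N ∘ π) i = lvl β := by
  simp only [lvl, Pi.sub_apply, sum_sub_distrib, Function.comp, Equiv.sum_comp π (del N)]

theorem XX_replicate_one {n : ℕ} (h : lvl β = n) :
    XX β (Multiset.replicate n 1) = n ! * ∑ π : Perm (Fin N), sg π * YY (β - del N ∘ π) := by
  induction n generalizing β with
  | zero =>
    rw [Multiset.replicate_zero, XX_zero, DD, Nat.factorial_zero, Nat.cast_one, one_mul]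
    refine sum_congr rfl fun π _ => ?_
    rw [YY_of_sum_eq_zero (by rw [sum_sub_del, h]; rfl)]
    simp only [sub_eq_zero, eq_comm (a := β)]
    split_ifs <;> simp
  | succ n ih =>
    rw [Multiset.replicate_succ, XX_cons, sum_congr rfl fun c _ => ih (by
      rw [lvl_sub_ee, h]; push_cast; ring), ← mul_sum, sum_comm, Nat.factorial_succ,
      Nat.cast_mul, mul_comm ((n + 1 : ℕ) : ℂ), mul_assoc, mul_sum (a := ((n + 1 : ℕ) : ℂ))]
    congr 1
    refine sum_congr rfl fun π _ => ?_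
    simp only [Nat.cast_one, sub_right_comm β (ee _ _), YY_sub_ee, ← mul_sum, ← sum_mul]
    rw [← Int.cast_sum, sum_sub_del, h]
    push_cast
    ring

theorem prod_factorial_mul_XX {n : ℕ} (h0 : ∀ i, 0 ≤ β i) (h : lvl β = n) :
    (∏ i, ((β i).toNat ! : ℂ)) * XX β (Multiset.replicate n 1) =
      n ! * ∏ i, ∏ j ∈ Ioi i, (β j - β i : ℂ) := by
  rw [← Matrix.det_vandermonde fun i => (β i : ℂ),
    Matrix.det_eval_matrixOfPolynomials_eq_det_vandermonde _ (fun j => descPochhammer ℂ j)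
      (fun j => descPochhammer_natDegree ℂ j) (fun j => monic_descPochhammer ℂ j),
    ← Matrix.det_transpose, Matrix.det_apply', XX_replicate_one h, mul_left_comm, mul_sum]
  congr 1
  refine sum_congr rfl fun π _ => ?_
  rw [mul_left_comm, YY, ← prod_mul_distrib]
  congr 1
  refine prod_congr rfl fun i _ => ?_
  obtain ⟨b, hb⟩ := Int.eq_ofNat_of_zero_le (h0 i)
  simp only [Matrix.transpose_apply, Matrix.of_apply, Pi.sub_apply, Function.comp, del, hb,
    Int.toNat_natCast, Int.cast_natCast, descPochhammer_eval_eq_descFactorial]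
  split_ifs with h1
  · have h2 : (π i : ℕ) ≤ b := by omega
    rw [← Nat.cast_sub h2, Int.toNat_natCast, ← Nat.factorial_mul_descFactorial h2]
    have : (((b - π i)! : ℕ) : ℂ) ≠ 0 := by exact_mod_cast Nat.factorial_ne_zero _
    push_cast
    field_simp
  · rw [Nat.descFactorial_of_lt (by omega)]; simp

/-- The product of the hook lengths. -/
noncomputable def HH (β : Fin N → ℤ) : ℕ := ∏ c, ∏ y ∈ gaps β c, (β c - y).natAbs

theorem prod_Ico_natAbs (b : ℕ) : ∏ y ∈ Ico (0 : ℤ) b, ((b : ℤ) - y).natAbs = b ! := by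
  rw [← prod_range_add_one_eq_factorial]
  refine prod_bij (fun y _ => (b - y - 1).toNat) (fun y hy => ?_) (fun y hy z hz h => ?_)
    (fun k hk => ⟨b - k - 1, ?_, ?_⟩) fun y hy => ?_
  all_goals simp only [mem_Ico, mem_range] at *; omega

theorem Good.prod_factorial (h : Good β) :
    ∏ i, (β i).toNat ! = HH β * ∏ i, ∏ j ∈ Ioi i, (β j - β i).natAbs := by
  have h1 : ∏ i, ∏ j ∈ Ioi i, (β j - β i).natAbs =
      ∏ c, ∏ d with β d < β c, (β c - β d).natAbs := by
    rw [prod_sigma', prod_sigma']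
    refine prod_bij (fun x _ => if β x.1 < β x.2 then ⟨x.2, x.1⟩ else x) (fun x hx => ?_)
      (fun x hx y hy hxy => ?_) (fun y hy => ?_) fun x hx => ?_
    · have h2 : x.1 ≠ x.2 := (mem_Ioi.1 (mem_sigma.1 hx).2).ne
      have := h.inj.ne h2
      split_ifs with h3
      · simpa using h3
      · simp only [mem_sigma, mem_univ, mem_filter, true_and]; omega
    · have h2 := mem_Ioi.1 (mem_sigma.1 hx).2
      have h3 := mem_Ioi.1 (mem_sigma.1 hy).2
      obtain ⟨a, b⟩ := x
      obtain ⟨c, d⟩ := y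
      split_ifs at hxy <;> simp_all <;> omega
    · obtain ⟨c, d⟩ := y
      have h2 : β d < β c := by simpa using hy
      have h3 : c ≠ d := by rintro rfl; omega
      rcases lt_or_gt_of_ne h3 with h4 | h4
      · exact ⟨⟨c, d⟩, by simpa using h4, if_neg h2.not_gt⟩
      · exact ⟨⟨d, c⟩, by simpa using h4, if_pos h2⟩
    · split_ifs
      · rfl
      · rw [← Int.natAbs_neg, neg_sub]
  rw [h1, HH, ← prod_mul_distrib]
  refine prod_congr rfl fun c _ => ?_
  obtain ⟨b, hb⟩ := Int.eq_ofNat_of_zero_le (h.nn c)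
  rw [hb, Int.toNat_natCast, ← prod_Ico_natAbs, ← hb,
    ← prod_filter_mul_prod_filter_not _ (fun y => ∀ d, β d ≠ y), ← prod_image (g := β)
      (f := fun y => (β c - y).natAbs) fun _ _ _ _ h' => h.inj h']
  congr 2
  ext y
  simp only [mem_filter, mem_Ico, not_forall, not_not, mem_image, mem_univ, true_and]
  constructor
  · rintro ⟨⟨-, h1⟩, d, rfl⟩
    exact ⟨d, h1, rfl⟩
  · rintro ⟨d, h1, rfl⟩
    exact ⟨⟨h.nn d, h1⟩, d, rfl⟩

theorem HH_ne_zero (β : Fin N → ℤ) : HH β ≠ 0 :=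
  prod_ne_zero_iff.2 fun c _ => prod_ne_zero_iff.2 fun y hy => by
    have := (mem_gaps.1 hy).1.2; omega

/-- The hook formula, up to sign. -/
theorem Good.norm_XX_mul_HH {n : ℕ} (h : Good β) (hn : lvl β = n) :
    ‖XX β (Multiset.replicate n 1)‖ * HH β = n ! := by
  have h1 := congrArg norm (prod_factorial_mul_XX h.nn hn)
  have h2 : ∀ i j, ‖(β j - β i : ℂ)‖ = ((β j - β i).natAbs : ℝ) := fun i j => by
    rw [← Int.cast_sub, Complex.norm_intCast, Nat.cast_natAbs, Int.cast_abs]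
  rw [← Nat.cast_prod, h.prod_factorial] at h1
  simp only [norm_mul, norm_prod, h2, Complex.norm_natCast, Nat.cast_mul, Nat.cast_prod] at h1
  have h3 : (∏ i, ∏ j ∈ Ioi i, ((β j - β i).natAbs : ℝ)) ≠ 0 :=
    prod_ne_zero_iff.2 fun i _ => prod_ne_zero_iff.2 fun j hj => by
      have := h.inj.ne (mem_Ioi.1 hj).ne
      exact_mod_cast (by omega : (β j - β i).natAbs ≠ 0)
  exact mul_right_cancel₀ h3 (by linarith)

theorem Good.XX_one_ne_zero {n : ℕ} (h : Good β) (hn : lvl β = n) :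
    XX β (Multiset.replicate n 1) ≠ 0 := fun h0 => by
  have := h.norm_XX_mul_HH hn
  rw [h0, norm_zero, zero_mul] at this
  exact Nat.factorial_ne_zero n (by exact_mod_cast this.symm)

theorem factorization_HH (hp : p.Prime) (β : Fin N → ℤ) : (HH β).factorization p =
    ∑ c, ∑ y ∈ gaps β c with (p : ℤ) ∣ β c - y, (β c - y).natAbs.factorization p := by
  have h0 : ∀ c, ∀ y ∈ gaps β c, (β c - y).natAbs ≠ 0 := fun c y hy => by
    have := (mem_gaps.1 hy).1.2; omega
  rw [HH, Nat.factorization_prod fun c _ => prod_ne_zero_iff.2 (h0 c), Finsupp.finset_sum_apply]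
  refine sum_congr rfl fun c _ => ?_
  rw [Nat.factorization_prod (h0 c), Finsupp.finset_sum_apply, sum_filter_of_ne]
  intro y _ h
  by_contra h'
  exact h (Nat.factorization_eq_zero_of_not_dvd fun h1 => h' (Int.natCast_dvd.2 h1))

theorem hk_le_factorization (hp : p.Prime) (β : Fin N → ℤ) :
    hk p β ≤ (HH β).factorization p := by
  rw [factorization_HH hp, hk]
  refine sum_le_sum fun c _ => ?_
  rw [card_eq_sum_ones]
  refine sum_le_sum fun y hy => ?_
  obtain ⟨h1, h2⟩ := mem_filter.1 hy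
  have := (mem_gaps.1 h1).1.2
  exact hp.factorization_pos_of_dvd (by omega) (Int.natCast_dvd.1 h2)

end Degree

variable {Ω : Type*} [Fintype Ω] [DecidableEq Ω]

/-- The character (up to sign) with beta-numbers `β`. -/
noncomputable def chi (β : Fin N → ℤ) (σ : Perm Ω) : ℂ := XX β (ty σ)

theorem chi_one (β : Fin N → ℤ) :
    chi β (1 : Perm Ω) = XX β (Multiset.replicate (Fintype.card Ω) 1) := by rw [chi, ty_one]

theorem isClassFunction_ty (F : Multiset ℕ → ℂ) :
    IsClassFunction (Perm Ω) fun σ => F (ty σ) := fun g h => by simp only [ty_conj]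

theorem classInner_ty (F F' : Multiset ℕ → ℂ) :
    classInner (fun σ : Perm Ω => F (ty σ)) (fun σ => F' (ty σ)) =
      EE (Fintype.card Ω) fun μ => F μ * conj (F' μ) := by
  rw [classInner_def, sum_ty fun μ => F μ * conj (F' μ), Nat.card_eq_fintype_card,
    Fintype.card_perm, inv_mul_cancel_left₀ (by exact_mod_cast Nat.factorial_ne_zero _)]

theorem classInner_ty_chi (F : Multiset ℕ → ℂ) (β : Fin N → ℤ) :
    classInner (fun σ : Perm Ω => F (ty σ)) (chi β) =
      EE (Fintype.card Ω) fun μ => F μ * XX β μ := by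
  simpa only [conj_XX] using! classInner_ty (Ω := Ω) F (XX β)

/-- The fibre sizes. -/
def fib (f : Ω → Fin N) : Fin N → ℤ := ∑ ω, ee (f ω) 1

theorem fib_comp (f : Ω → Fin N) (σ : Perm Ω) : fib (f ∘ σ) = fib f :=
  Equiv.sum_comp σ fun ω => ee (f ω) 1

theorem fib_apply (f : Ω → Fin N) (i : Fin N) : fib f i = #{ω | f ω = i} := by
  simp [fib, ee_apply, eq_comm]

theorem prod_ps_ty (σ : Perm Ω) : ((ty σ).map (ps N)).prod =
    ∑ f : Ω → Fin N with f ∘ σ = f, AddMonoidAlgebra.single (fib f) 1 := by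
  classical
  let Q := Quotient (Perm.SameCycle.setoid σ)
  let q : Ω → Q := Quotient.mk _
  have hq : Function.Surjective q := Quotient.mk_surjective
  have hq' : ∀ a b, q a = q b ↔ σ.SameCycle a b := fun a b => Quotient.eq
  rw [ty_eq_map σ q hq hq', Multiset.map_map]
  change ∏ c : Q, ps N #{ω | q ω = c} = _
  simp only [ps]
  rw [prod_univ_sum, Fintype.piFinset_univ]
  refine sum_bij (fun g _ => g ∘ q) (fun g _ => ?_) (fun g _ g' _ h => hq.right_cancellable.1 h)
    (fun f hf => ?_) fun g _ => ?_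
  · refine mem_filter.2 ⟨mem_univ _, funext fun ω => congrArg g ((hq' _ _).2 ?_)⟩
    exact Perm.sameCycle_apply_left.2 (Perm.SameCycle.refl _ _)
  · have hf := (mem_filter.1 hf).2
    have h1 : ∀ (k : ℕ) a, f ((σ ^ k) a) = f a := fun k a => by
      induction k with
      | zero => rfl
      | succ k ih => rw [pow_succ', Perm.mul_apply, ← ih]; exact congrFun hf _
    refine ⟨Quotient.lift f fun a b hab => ?_, mem_univ _, rfl⟩
    obtain ⟨k, -, rfl⟩ := Perm.SameCycle.exists_pow_eq' hab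
    exact (h1 k a).symm
  · rw [AddMonoidAlgebra.prod_single, prod_const_one, fib,
      ← sum_fiberwise_of_maps_to (g := q) (t := univ) fun _ _ => mem_univ _]
    congr 1
    refine sum_congr rfl fun c _ => ?_
    rw [sum_congr rfl (g := fun _ => ee (g c) 1) fun ω hω => by simp [(mem_filter.1 hω).2]]
    ext i
    simp [ee_apply]

theorem coeff_prod_ps (σ : Perm Ω) (α : Fin N → ℤ) : ((ty σ).map (ps N)).prod.coeff α =
    #{f : Ω → Fin N | f ∘ σ = f ∧ fib f = α} := by
  rw [prod_ps_ty, AddMonoidAlgebra.coeff_sum, Finsupp.finset_sum_apply, ← filter_filter,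
    card_filter]
  simp [Finsupp.single_apply]

/-- The action on maps with given fibre sizes. -/
@[reducible] def fibAction (α : Fin N → ℤ) : MulAction (Perm Ω) {f : Ω → Fin N // fib f = α} where
  smul g f := ⟨f.1 ∘ ⇑g⁻¹, by rw [fib_comp, f.2]⟩
  one_smul _ := rfl
  mul_smul _ _ _ := rfl

theorem isCharacter_coeff (α : Fin N → ℤ) :
    IsCharacter (Perm Ω) fun σ => ((ty σ).map (ps N)).prod.coeff α := by
  letI := fibAction (Ω := Ω) α
  convert isCharacter_perm (G := Perm Ω) {f : Ω → Fin N // fib f = α} using 2 with σ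
  rw [coeff_prod_ps, ← Nat.card_eq_finsetCard]
  refine congrArg _ (Nat.card_congr ⟨fun f => ⟨⟨f.1, (mem_filter.1 f.2).2.2⟩, ?_⟩,
    fun f => ⟨f.1.1, mem_filter.2 ⟨mem_univ _, ?_, f.1.2⟩⟩, fun _ => rfl, fun _ => rfl⟩)
  · refine Subtype.ext (funext fun ω => ?_)
    simpa using! (congrFun (mem_filter.1 f.2).2.1 (σ⁻¹ ω)).symm
  · refine funext fun ω => ?_
    have : f.1.1 (σ⁻¹ (σ ω)) = f.1.1 (σ ω) := congrFun (congrArg Subtype.val f.2) (σ ω)
    simpa using this.symm

theorem isGenChar_chi (β : Fin N → ℤ) : IsGeneralizedCharacter (Perm Ω) (chi β) := by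
  have : chi β = ∑ π : Perm (Fin N), ((Perm.sign π : ℤ) : ℂ) • fun σ : Perm Ω =>
      ((ty σ).map (ps N)).prod.coeff (-(del N ∘ π) + β) := by
    ext σ
    simp [chi, XX, alt, sum_mul, AddMonoidAlgebra.coeff_sum, sg]
  rw [this]
  exact isGenChar_sum _ fun π _ =>
    isGenChar_intCast_smul _ (isGenChar_of_isCharacter (isCharacter_coeff _))

theorem exists_classInner_chi_ne_zero (hN : Fintype.card Ω ≤ N) {χ : Perm Ω → ℂ} (h : χ 1 ≠ 0) :
    ∃ β : Fin N → ℤ, classInner (chi β) χ ≠ 0 := by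
  by_contra h0
  push Not at h0
  have h1 : alt (del N) * ∑ σ : Perm Ω, conj (χ σ) • ((ty σ).map (ps N)).prod = 0 := by
    ext β
    have := card_mul_classInner (chi β) χ
    rw [h0, mul_zero] at this
    simp only [mul_sum, mul_smul_comm, AddMonoidAlgebra.coeff_sum, Finsupp.finset_sum_apply,
      AddMonoidAlgebra.coeff_smul, Finsupp.smul_apply, smul_eq_mul, AddMonoidAlgebra.coeff_zero,
      Finsupp.zero_apply, this]
    exact sum_congr rfl fun σ _ => mul_comm _ _
  have h2 : alt (del N) ≠ 0 := fun h => by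
    have := coeff_alt (del N) (del N)
    rw [h, DD_self good_del.inj] at this
    simp at this
  obtain ⟨f₀⟩ : Nonempty (Ω ↪ Fin N) :=
    Function.Embedding.nonempty_of_card_le (by simpa using hN)
  have h3 := congrArg (fun x => x.coeff (fib f₀)) ((mul_eq_zero.1 h1).resolve_left h2)
  simp only [AddMonoidAlgebra.coeff_sum, Finsupp.finset_sum_apply, AddMonoidAlgebra.coeff_smul,
    Finsupp.smul_apply, smul_eq_mul, AddMonoidAlgebra.coeff_zero, Finsupp.zero_apply,
    coeff_prod_ps] at h3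
  rw [sum_eq_single 1 (fun σ _ hσ => ?_) (by simp)] at h3
  · refine mul_ne_zero (by simpa using h) ?_ h3
    exact_mod_cast card_ne_zero.2 ⟨⇑f₀, by simp⟩
  · rw [card_eq_zero.2 (filter_eq_empty_iff.2 fun f _ hf => hσ (Perm.ext fun ω => ?_))]
    · simp
    have h4 := congrFun hf.2 (f ω)
    rw [fib_apply, fib_apply, Nat.cast_inj] at h4
    have h5 : #{ω' | f₀ ω' = f ω} ≤ 1 := card_le_one.2 fun a ha b hb =>
      f₀.injective ((mem_filter.1 ha).2.trans (mem_filter.1 hb).2.symm)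
    rw [← h4] at h5
    exact card_le_one.1 h5 _ (mem_filter.2 ⟨mem_univ _, congrFun hf.1 ω⟩) _ (by simp)

/-- `β` labels the irreducible character `χ`. -/
def Lab (β : Fin N → ℤ) (χ : IrrCharacter (Perm Ω)) : Prop :=
  ∃ ε : ℂ, (ε = 1 ∨ ε = -1) ∧ ∀ σ, (χ : Perm Ω → ℂ) σ = ε * chi β σ

theorem Good.exists_lab (h : Good β) (hn : lvl β = Fintype.card Ω) :
    ∃ χ : IrrCharacter (Perm Ω), Lab β χ := by
  obtain ⟨χ, hχ, h1⟩ := exists_irr_of_genChar_norm_one (isGenChar_chi (Ω := Ω) β)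
    ((classInner_ty_chi (XX β) β).trans (EE_XX_self h hn))
  rcases h1 with h1 | h1
  · exact ⟨⟨χ, hχ⟩, 1, Or.inl rfl, fun σ => by simp [h1]⟩
  · exact ⟨⟨χ, hχ⟩, -1, Or.inr rfl, fun σ => by simp [h1]⟩

variable {χ ψ : IrrCharacter (Perm Ω)}

theorem Lab.ne_zero_iff (h : Lab β χ) (σ : Perm Ω) :
    (χ : Perm Ω → ℂ) σ ≠ 0 ↔ XX β (ty σ) ≠ 0 := by
  obtain ⟨ε, h1, h2⟩ := h
  rcases h1 with rfl | rfl <;> simp [h2, chi]

theorem Lab.good (h : Lab β χ) : Good β :=
  good_of_XX ((h.ne_zero_iff 1).1 (irr_one_ne_zero χ.2))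

theorem Lab.lvl_eq (h : Lab β χ) : lvl β = Fintype.card Ω := by
  rw [(nn_of_XX ((h.ne_zero_iff 1).1 (irr_one_ne_zero χ.2))).2, ty_sum]

theorem Lab.exists_classInner (h : Lab β χ) (h' : Lab β' ψ) :
    ∃ ε : ℂ, ε ≠ 0 ∧ ∀ F : Multiset ℕ → ℂ, classInner (fun σ => F (ty σ) * (χ : Perm Ω → ℂ) σ) ψ =
      ε * EE (Fintype.card Ω) fun μ => F μ * (XX β μ * XX β' μ) := by
  obtain ⟨ε, h1, h2⟩ := h
  obtain ⟨ε', h1', h2'⟩ := h'
  refine ⟨ε * ε', by rcases h1 with rfl | rfl <;> rcases h1' with rfl | rfl <;> simp, fun F => ?_⟩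
  rw [funext h2', classInner_ty (fun μ => F μ * (ε * XX β μ)) (fun μ => ε' * XX β' μ) |>.symm.symm
    |> fun h => (by simpa only [h2, chi] using h :
      classInner (fun σ => F (ty σ) * (χ : Perm Ω → ℂ) σ) (fun σ => ε' * chi β' σ) = _), ← EE_mul]
  refine EE_congr fun μ _ _ => ?_
  rcases h1' with rfl | rfl <;> simp [conj_XX] <;> ring

theorem Lab.unique (h : Lab β χ) (h' : Lab β ψ) : χ = ψ := by
  obtain ⟨ε, h0, h1⟩ := h.exists_classInner h'
  have := h1 fun _ => 1
  simp only [one_mul, EE_XX_self h.good h.lvl_eq, mul_one] at this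
  exact Subtype.ext (irr_eq_of_classInner_ne_zero χ.2 ψ.2 (this ▸ h0))

theorem Lab.comp (h : Lab β χ) (π : Perm (Fin N)) : Lab (β ∘ π) χ := by
  obtain ⟨ε, h1, h2⟩ := h
  refine ⟨ε * sg π, ?_, fun σ => ?_⟩
  · rcases h1 with rfl | rfl <;> rcases sg_eq π with h | h <;> simp [h]
  · rw [h2, chi, chi, XX_comp, mul_assoc, ← mul_assoc (sg π), sg_mul_self, one_mul]

theorem exists_lab (hN : Fintype.card Ω ≤ N) (χ : IrrCharacter (Perm Ω)) :
    ∃ β : Fin N → ℤ, Lab β χ := by
  obtain ⟨β, hβ⟩ := exists_classInner_chi_ne_zero hN (irr_one_ne_zero χ.2)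
  have h1 : ∃ σ : Perm Ω, chi β σ ≠ 0 := by
    by_contra h
    push Not at h
    exact hβ (by rw [show chi β = 0 from funext h, classInner_zero_left])
  obtain ⟨σ, hσ⟩ := h1
  obtain ⟨ψ, ε, h1, h2⟩ := (good_of_XX hσ).exists_lab (Ω := Ω) (by rw [(nn_of_XX hσ).2, ty_sum])
  have h3 : classInner (ψ : Perm Ω → ℂ) χ ≠ 0 := by
    rw [show (ψ : Perm Ω → ℂ) = ε • chi β from funext h2, classInner_smul_left]
    exact mul_ne_zero (by rcases h1 with rfl | rfl <;> simp) hβ
  exact ⟨β, ε, h1, irr_eq_of_classInner_ne_zero ψ.2 χ.2 h3 ▸ h2⟩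

/-- The hook formula. -/
theorem Lab.degree_mul_HH (h : Lab β χ) :
    charDegree (χ : Perm Ω → ℂ) * HH β = (Fintype.card Ω)! := by
  have h1 := h.good.norm_XX_mul_HH h.lvl_eq
  obtain ⟨d, -, hd⟩ := exists_irr_one_eq_nat χ.2
  obtain ⟨ε, h2, h3⟩ := h
  have h4 : ‖XX β (Multiset.replicate (Fintype.card Ω) 1)‖ = d := by
    rw [← Complex.norm_natCast, ← hd, h3, chi_one]
    rcases h2 with rfl | rfl <;> simp
  have h5 : charDegree (χ : Perm Ω → ℂ) = d := by simp [charDegree, hd]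
  rw [h4] at h1
  rw [h5]
  exact_mod_cast h1

theorem eq_zero_of_EE (hN : Fintype.card Ω ≤ N) {F : Multiset ℕ → ℂ}
    (h : ∀ β : Fin N → ℤ, EE (Fintype.card Ω) (fun μ => F μ * XX β μ) = 0) (σ : Perm Ω) :
    F (ty σ) = 0 := by
  refine congrFun (classFun_eq_zero_of_inner (isClassFunction_ty F) fun χ hχ => ?_) σ
  obtain ⟨β, ε, -, h2⟩ := exists_lab hN ⟨χ, hχ⟩
  rw [show χ = ε • chi β from funext h2, classInner_smul_right, classInner_ty_chi, h, mul_zero]

theorem sum_chi_add_ee (hN : Fintype.card Ω ≤ N) {j : ℕ} (hj : 0 < j) (h : ∀ i, 0 ≤ β i)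
    {σ : Perm Ω} (hσ : j ∉ ty σ) : ∑ c, chi (β + ee c j) σ = 0 := by
  have := eq_zero_of_EE hN (F := fun μ => ∑ c, XX (β + ee c j) μ -
    (j * μ.count j : ℂ) * XX β (μ.erase j)) (fun β' => by
      simp only [sub_mul, EE_sub, EE_sum_add_ee hj h, mul_assoc, sub_self]) σ
  simpa [Multiset.count_eq_zero_of_notMem hσ] using! this

end CfsgLib.SymChar
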