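import Mathlib
import Cfsg.Agent.Lib.SymChar.Char
import Cfsg.Agent.Lib.SymChar.Syl
import Cfsg.Agent.Lib.Blk.Reg
import Cfsg.Agent.Lib.Block.Vanish

/-!
# Blocks of symmetric groups: the Nakayama conjecture and defect groups
-/

set_option autoImplicit false

namespace CfsgLib.SymChar

open Equiv Finset Cfsg CfsgLib.Char CfsgLib.Block CfsgLib.Fusion
open scoped Nat

variable {N p : ℕ} {β β' : Fin N → ℤ} {M : Ideal AlgInt}

/-- The gaps below `c` on its runner. -/
noncomputable def gp (p : ℕ) (β : Fin N → ℤ) (c : Fin N) : Finset ℤ :=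
  {y ∈ gaps β c | (p : ℤ) ∣ β c - y}

theorem mem_gp {c : Fin N} {y : ℤ} :
    y ∈ gp p β c ↔ ((0 ≤ y ∧ y < β c) ∧ ∀ d, β d ≠ y) ∧ (p : ℤ) ∣ β c - y := by
  rw [gp, mem_filter, mem_gaps]

theorem gp_of_hk (h : hk p β = 0) (c : Fin N) : gp p β c = ∅ :=
  card_eq_zero.1 (sum_eq_zero_iff.1 h c (mem_univ _))

/-- The exponent of `p` in the hook product. -/
noncomputable def nu (p : ℕ) (β : Fin N → ℤ) : ℕ := (HH β).factorization p

theorem nu_eq (hp : p.Prime) (β : Fin N → ℤ) :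
    nu p β = ∑ c, ∑ y ∈ gp p β c, (β c - y).natAbs.factorization p := factorization_HH hp β

theorem nu_of_hk (hp : p.Prime) (h : hk p β = 0) : nu p β = 0 := by
  simp [nu_eq hp, gp_of_hk h]

/-- `c` is the last bead on its runner. -/
def Top (p : ℕ) (β : Fin N → ℤ) (c : Fin N) : Prop := ∀ d, (p : ℤ) ∣ β c - β d → β d ≤ β c

theorem Top.good {c : Fin N} (hc : Top p β c) (h : Good β) (u : ℕ) : Good (β + ee c (p * u)) :=
  h.move c (add_nonneg (h.nn c) (by positivity)) fun d hd e => by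
    have h1 := hc d ⟨-u, by rw [e]; ring⟩
    have h2 : (0 : ℤ) ≤ p * u := by positivity
    exact hd (h.inj (by omega))

theorem Top.add_self {c : Fin N} (hc : Top p β c) (u : ℕ) : Top p (β + ee c (p * u)) c :=
  fun d hd => by
    rcases eq_or_ne d c with rfl | hdc
    · rfl
    · simp only [Pi.add_apply, ee_self, ee_ne hdc, add_zero] at hd ⊢
      have h1 := hc d ((dvd_sub hd (dvd_mul_right (p : ℤ) u)).trans (dvd_of_eq (by ring)))
      have h2 : (0 : ℤ) ≤ p * u := by positivity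
      omega

theorem Top.add_other {c d : Fin N} (hd : Top p β d) (hcd : ¬ (p : ℤ) ∣ β d - β c) {k : ℤ}
    (hk : (p : ℤ) ∣ k) : Top p (β + ee c k) d := fun e he => by
  have hdc : d ≠ c := by rintro rfl; simp at hcd
  rcases eq_or_ne e c with rfl | hec
  · simp only [Pi.add_apply, ee_self, ee_ne hdc, add_zero] at he
    exact absurd ((dvd_add he hk).trans (dvd_of_eq (by ring))) hcd
  · simp only [Pi.add_apply, ee_ne hec, ee_ne hdc, add_zero] at he ⊢
    exact hd e he

theorem Top.gp_other {c d : Fin N} (hc : Top p β c) (h : Good β) (hdc : d ≠ c) (u : ℕ) :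
    gp p (β + ee c (p * u)) d = gp p β d := by
  have h2 : (0 : ℤ) ≤ p * u := by positivity
  ext y
  simp only [mem_gp, Pi.add_apply, ee_ne hdc, add_zero]
  refine and_congr_left fun h1 => and_congr_right fun h3 => ⟨fun h4 e he => ?_, fun h4 e he => ?_⟩
  · rcases eq_or_ne e c with rfl | hec
    · have := hc d (by rw [he, ← neg_sub]; exact h1.neg_right)
      omega
    · exact h4 e (by rw [ee_ne hec, add_zero, he])
  · rcases eq_or_ne e c with rfl | hec
    · rw [ee_self] at he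
      have := hc d (by
        rw [show β e - β d = -(β d - y) - p * u by omega]
        exact dvd_sub h1.neg_right (dvd_mul_right _ _))
      omega
    · exact h4 e (by rwa [ee_ne hec, add_zero] at he)

theorem Top.gp_self (hp : 0 < p) {c : Fin N} (hc : Top p β c) (h : Good β) (u : ℕ) :
    gp p (β + ee c (p * u)) c = gp p β c ∪ (range u).image fun j : ℕ => β c + p * j := by
  have hp' : (0 : ℤ) < p := by exact_mod_cast hp
  have h2 : (0 : ℤ) ≤ p * u := by positivity
  ext y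
  simp only [mem_gp, Pi.add_apply, ee_self, mem_union, mem_image, mem_range]
  constructor
  · rintro ⟨⟨⟨h0, h1⟩, h3⟩, h4⟩
    have h5 : (p : ℤ) ∣ β c - y := 
      (dvd_sub h4 (dvd_mul_right (p : ℤ) u)).trans (dvd_of_eq (by ring))
    rcases lt_or_ge y (β c) with h6 | h6
    · refine Or.inl ⟨⟨⟨h0, h6⟩, fun d hd => ?_⟩, h5⟩
      rcases eq_or_ne d c with rfl | hdc
      · omega
      · exact h3 d (by rw [ee_ne hdc, add_zero, hd])
    · obtain ⟨k, hk⟩ := h5.neg_right
      have hk0 : 0 ≤ k := by nlinarith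
      lift k to ℕ using hk0
      exact Or.inr ⟨k, by have : (k : ℤ) < u := by nlinarith
                          exact_mod_cast this, by omega⟩
  · rintro (⟨⟨⟨h0, h1⟩, h3⟩, h4⟩ | ⟨j, hj, rfl⟩)
    · refine ⟨⟨⟨h0, by omega⟩, fun d hd => ?_⟩, by
        rw [add_sub_right_comm]; exact dvd_add h4 (dvd_mul_right _ _)⟩
      rcases eq_or_ne d c with rfl | hdc
      · rw [ee_self] at hd; omega
      · exact h3 d (by rwa [ee_ne hdc, add_zero] at hd)
    · have hj' : (p : ℤ) * j < p * u := by gcongr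
      have h3 : (0 : ℤ) ≤ p * j := by positivity
      refine ⟨⟨⟨add_nonneg (h.nn c) h3, by omega⟩, fun d hd => ?_⟩, ⟨u - j, by ring⟩⟩
      rcases eq_or_ne d c with rfl | hdc
      · rw [ee_self] at hd; omega
      · rw [ee_ne hdc, add_zero] at hd
        have := hc d ⟨-j, by rw [hd]; ring⟩
        exact hdc (h.inj (by omega))

theorem sum_factorization_mul (hp : p.Prime) (u : ℕ) :
    ∑ j ∈ range u, (p * (u - j)).factorization p = (p * u)!.factorization p := by
  rw [← sum_range_reflect]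
  induction u with
  | zero => simp
  | succ u ih =>
    rw [Nat.factorization_factorial_mul_succ hp, ← ih, sum_range_succ, add_assoc]
    congr 1
    · refine sum_congr rfl fun j hj => ?_
      rw [mem_range] at hj
      congr 3
      omega
    · rw [show u + 1 - (u + 1 - 1 - u) = u + 1 by omega,
        Nat.factorization_mul hp.ne_zero u.succ_ne_zero]
      simp [hp.factorization_self, add_comm]

theorem Top.nu_add (hp : p.Prime) {c : Fin N} (hc : Top p β c) (h : Good β) (u : ℕ) :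
    nu p (β + ee c (p * u)) + ∑ y ∈ gp p β c, (β c - y).natAbs.factorization p =
      nu p β + ∑ y ∈ gp p β c, (β c + p * u - y).natAbs.factorization p +
        (p * u)!.factorization p := by
  have hp' : (p : ℤ) ≠ 0 := by exact_mod_cast hp.ne_zero
  rw [nu_eq hp, nu_eq hp, ← add_sum_erase _ _ (mem_univ c), ← add_sum_erase _ _ (mem_univ c),
    hc.gp_self hp.pos h, sum_union, sum_image (fun a _ b _ e => by simpa [hp.ne_zero] using e),
    sum_congr rfl (g := fun d => ∑ y ∈ gp p β d, (β d - y).natAbs.factorization p) fun d hd => by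
      rw [hc.gp_other h (ne_of_mem_erase hd), Pi.add_apply, ee_ne (ne_of_mem_erase hd), add_zero],
    ← sum_factorization_mul hp, Pi.add_apply, ee_self,
    sum_congr rfl (g := fun j => (p * (u - j)).factorization p) fun j hj => by
      congr 2
      rw [← Int.natAbs_natCast (p * (u - j))]
      push_cast [(mem_range.1 hj).le]
      ring_nf]
  · ring
  · refine disjoint_left.2 fun y hy hy' => ?_
    obtain ⟨j, -, rfl⟩ := mem_image.1 hy'
    have := (mem_gp.1 hy).1.1.2
    have : (0 : ℤ) ≤ p * j := by positivity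
    omega

theorem Top.nu_add_of_empty (hp : p.Prime) {c : Fin N} (hc : Top p β c) (h : Good β)
    (h0 : gp p β c = ∅) (u : ℕ) :
    nu p (β + ee c (p * u)) = nu p β + (p * u)!.factorization p := by
  simpa [h0] using hc.nu_add hp h u

theorem Good.exists_top_eq (h : Good β) {y : ℤ} (h0 : 0 ≤ y) (hy : lvl β + y < N) :
    ∃ t, Top p β t ∧ (p : ℤ) ∣ y - β t ∧ y ≤ β t := by
  obtain ⟨c, rfl⟩ := h.exists_eq h0 hy
  obtain ⟨t, h1, h2⟩ := exists_top p β c
  exact ⟨t, h2, h1, h2 c (by rw [← neg_sub]; exact h1.neg_right)⟩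

theorem sameBlock_of_classInner {G : Type*} [Group G] [Fintype G] (hM : IsPModular p M)
    {f : G → ℂ} (hf : ∀ g h x y, IsPPart p g x → IsPPart p h y → IsConj x y → f g = f h)
    {χ ψ : IrrCharacter G} (h : classInner (fun g => f g * (χ : G → ℂ) g) ψ ≠ 0) :
    SameBlock M (χ : G → ℂ) (ψ : G → ℂ) := by
  classical
  by_contra hn
  have hχ : χ ∉ blockOf M (ψ : G → ℂ) := fun h => hn (sameBlock_symm h)
  refine h ?_
  rw [← Blk.classInner_blockPart_of_mem _ (mem_blockOf.2 (sameBlock_refl hM _)),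
    ← classInner_zero_left (ψ : G → ℂ)]
  congr 1
  funext u
  have h1 := congrFun (blockPart_irr_of_notMem hχ) u
  rw [blockPart_eq_sum_sum, Pi.zero_apply] at h1 ⊢
  rw [← mul_zero (f u), ← h1, mul_left_comm, mul_sum _ _ (f u)]
  congr 1
  refine sum_congr rfl fun g _ => ?_
  obtain ⟨x, hx⟩ := exists_isPPart hM.1 u
  obtain ⟨y, hy⟩ := exists_isPPart hM.1 g
  by_cases hxy : IsConj x y
  · rw [hf u g x y hx hy hxy, mul_assoc]
  · simp [block_orth_of_mem_OG hM (blockIdem_mem_OG hM ⟨ψ, rfl⟩) hx hy hxy]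

variable {Ω : Type*} [Fintype Ω] [DecidableEq Ω] {χ ψ : IrrCharacter (Perm Ω)}

theorem WW_ty_of_isPPart (hp : p.Prime) {g x : Perm Ω} (h : IsPPart p g x) :
    WW p (ty g) = #x.support := by
  obtain ⟨k, hk⟩ := isPPart_mem_zpowers hp h
  obtain ⟨y, rfl, hc, ⟨a, ha⟩, hy⟩ := h
  rw [WW_ty]
  congr 1
  ext ω
  simp only [mem_filter, mem_univ, true_and, Perm.mem_support, sz_eq_period]
  refine ⟨fun h h1 => hy (h.trans (MulAction.pow_smul_eq_iff_period_dvd.1 ?_)), fun h => ?_⟩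
  · rw [hc.mul_pow, pow_orderOf_eq_one, mul_one]
    exact Perm.pow_apply_eq_self_of_apply_eq_self h1 _
  · by_contra h1
    refine h (MulAction.period_eq_one_iff.1 (Nat.eq_one_of_dvd_coprimes
      (coprime_of_pow_of_not_dvd hp ha h1) (MulAction.period_dvd_orderOf x ω)
      (MulAction.pow_smul_eq_iff_period_dvd.1 ?_)))
    have h2 : x ^ MulAction.period (x * y) ω = ((x * y) ^ MulAction.period (x * y) ω) ^ k := by
      rw [← zpow_natCast, ← zpow_natCast, ← zpow_mul, mul_comm _ k, zpow_mul]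
      exact congrArg (· ^ _) hk.symm
    rw [h2]
    exact Perm.zpow_apply_eq_self_of_apply_eq_self (MulAction.pow_period_smul (x * y) ω) k

theorem Lab.sim (hM : IsPModular p M) (hN : Fintype.card Ω ≤ N) (h : Lab β χ) (h' : Lab β' ψ)
    (hs : SameBlock M (χ : Perm Ω → ℂ) (ψ : Perm Ω → ℂ)) : Sim p β β' := by
  have := Fact.mk hM.1
  have hB : IsPBlock M (blockOf M (χ : Perm Ω → ℂ)) := ⟨χ, rfl⟩
  obtain ⟨θ, hθ, h0⟩ := Blk.exists_height_zero (p := p) ⟨χ, mem_blockOf.2 (sameBlock_refl hM _)⟩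
  obtain ⟨γ, hγ⟩ := exists_lab hN θ
  have key : ∀ {β : Fin N → ℤ} {ψ : IrrCharacter (Perm Ω)}, ψ ∈ blockOf M (χ : Perm Ω → ℂ) →
      Lab β ψ → Sim p γ β := fun {β ψ} hψ h => by
    by_contra hn
    obtain ⟨n, hn1, hn2⟩ := Blk.exists_aa_eq_of_height_zero hM hB hθ hψ h0
    obtain ⟨ε, -, hε⟩ := hγ.exists_classInner h
    have h1 := Blk.aa_cast (p := p) hθ (isGenChar_of_isIrr ψ.2)
    have h2 := hε fun μ => if WW p μ = 0 then 1 else 0
    rw [EE_WW_XX_eq_zero _ (fun k => if k = 0 then 1 else 0) hn, mul_zero] at h2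
    rw [Blk.mm, show pRegularPart p (θ : Perm Ω → ℂ) = _ from funext fun σ => ?_, h2, mul_zero, hn2]
      at h1
    · have : n = 0 := by simpa [hM.1.ne_zero] using h1
      exact hn1 (this ▸ dvd_zero _)
    · simp [pRegularPart, IsPRegular, dvd_orderOf_iff_WW hM.1]
  exact (key (mem_blockOf.2 (sameBlock_refl hM _)) h).symm.trans (key hs h')

theorem Lab.sameBlock_move (hM : IsPModular p M) {ζ : Fin N → ℤ} {a b : Fin N} (hζ : Good ζ)
    (h : Lab (ζ + ee a p) χ) (h' : Lab (ζ + ee b p) ψ) (hab : ¬ (p : ℤ) ∣ ζ a - ζ b) :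
    SameBlock M (χ : Perm Ω → ℂ) (ψ : Perm Ω → ℂ) := by
  obtain ⟨ε, h1, hε⟩ := h.exists_classInner h'
  refine sameBlock_of_classInner hM (f := fun σ => WW p (ty σ)) (fun g h x y hx hy hxy => ?_) ?_
  · rw [WW_ty_of_isPPart hM.1 hx, WW_ty_of_isPPart hM.1 hy]
    obtain ⟨c, rfl⟩ := isConj_iff.1 hxy
    rw [Perm.card_support_conj]
  · rwa [hε fun μ => WW p μ, EE_WW_move hM.1.pos hζ (by rw [← h.lvl_eq, lvl_add_ee]) h.good h'.good
      hab, mul_one]

theorem Lab.exists_packedOn (hM : IsPModular p M) (hN : Fintype.card Ω + p ≤ N) {c : Fin N}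
    (h : Lab β χ) (hc : Top p β c) : ∃ (γ : Fin N → ℤ) (θ : IrrCharacter (Perm Ω)), Lab γ θ ∧
      SameBlock M (χ : Perm Ω → ℂ) (θ : Perm Ω → ℂ) ∧ (∀ i, (p : ℤ) ∣ γ i - β i) ∧
      PackedOn p (univ.erase c) γ := by
  have hp : (2 : ℤ) ≤ p := by exact_mod_cast hM.1.two_le
  have hN' : (Fintype.card Ω : ℤ) + p ≤ N := by exact_mod_cast hN
  induction hk : (Fintype.card Ω + ∑ i, del N i - β c).toNat using Nat.strong_induction_on
    generalizing β χ with
  | _ k ih =>
  by_cases hP : PackedOn p (univ.erase c) β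
  · exact ⟨β, χ, h, sameBlock_refl hM _, by simp, hP⟩
  simp only [PackedOn, mem_erase, mem_univ, and_true, not_forall, not_exists, not_and] at hP
  obtain ⟨a, hac, ha1, ha2⟩ := hP
  have hζ : Good (β - ee a p) := h.good.move_sub a ha1 fun d _ e => by
    rcases eq_or_ne d c with rfl | hdc
    · have := hc a ⟨-1, by rw [e]; ring⟩
      omega
    · exact ha2 d hdc e
  set ζ := β - ee a p with hζ'
  have hl : lvl ζ + p = Fintype.card Ω := by rw [lvl_sub_ee, h.lvl_eq]; ring
  have hβ : ζ + ee a p = β := sub_add_cancel _ _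
  have hcζ : Top p ζ c := fun d hd => by
    have h1 : ζ d ≤ β d := by
      simp only [hζ', Pi.sub_apply, ee_apply]
      split_ifs <;> omega
    have h2 : ζ c = β c := by simp [hζ', ee_ne hac.symm]
    refine h1.trans (h2 ▸ hc d ?_)
    rw [← h2]
    exact (dvd_sub hd (dvd_ee dvd_rfl a d)).trans (dvd_of_eq (by simp only [hζ', Pi.sub_apply]; ring))
  have lab : ∀ {t}, Top p ζ t → ∃ θ : IrrCharacter (Perm Ω), Lab (ζ + ee t p) θ := fun ht =>
    Good.exists_lab (by simpa using ht.good hζ 1) (by rw [lvl_add_ee, hl])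
  obtain ⟨θ, hθ⟩ := lab hcζ
  have hs : SameBlock M (χ : Perm Ω → ℂ) (θ : Perm Ω → ℂ) := by
    by_cases hd : (p : ℤ) ∣ ζ a - ζ c
    · obtain ⟨t, ht, ht1⟩ : ∃ t, Top p ζ t ∧ ¬ (p : ℤ) ∣ ζ c - ζ t := by
        obtain ⟨t, ht, h1, -⟩ := hζ.exists_top_eq (p := p) le_rfl (by omega)
        obtain ⟨s, hs, h2, -⟩ := hζ.exists_top_eq (p := p) zero_le_one (by omega)
        by_contra hn
        push Not at hn
        have := Int.le_of_dvd one_pos (show (p : ℤ) ∣ 1 by
          simpa using dvd_add (dvd_sub h2 h1) (dvd_sub (hn t ht) (hn s hs)))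
        omega
      obtain ⟨θ', hθ'⟩ := lab ht
      exact sameBlock_trans hM (Lab.sameBlock_move hM hζ (hβ ▸ h) hθ' fun h1 =>
        ht1 (by simpa using dvd_sub h1 hd)) (sameBlock_symm (hθ.sameBlock_move hM hζ hθ' ht1))
    · exact Lab.sameBlock_move hM hζ (hβ ▸ h) hθ hd
  have h1 := le_of_nn hθ.good.nn c
  rw [hθ.lvl_eq] at h1
  have h2 : (ζ + ee c p) c = β c + p := by simp [hζ', ee_ne hac.symm]
  obtain ⟨γ, η, k1, k2, k3, k4⟩ := ih _ (by omega) hθ (by simpa using hcζ.add_self 1) rfl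
  refine ⟨γ, η, k1, sameBlock_trans hM hs k2, fun i => ?_, k4⟩
  exact (dvd_add (k3 i) (dvd_sub (dvd_ee (dvd_refl (p : ℤ)) c i) (dvd_ee (dvd_refl (p : ℤ)) a i))).trans
    (dvd_of_eq (by simp only [hζ', Pi.sub_apply, Pi.add_apply]; ring))

theorem Lab.sameBlock (hM : IsPModular p M) (hN : Fintype.card Ω + p ≤ N) (h : Lab β χ)
    (h' : Lab β' ψ) (hs : Sim p β β') : SameBlock M (χ : Perm Ω → ℂ) (ψ : Perm Ω → ℂ) := by
  have hp := hM.1.pos
  obtain ⟨π, hπ⟩ := hs
  replace h := h.comp π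
  change ∀ i, (p : ℤ) ∣ β' i - (β ∘ π) i at hπ
  generalize β ∘ π = β at h hπ
  obtain ⟨c, hc1, hc⟩ := exists_top p β ⟨0, by omega⟩
  obtain ⟨c', hc1', hc'⟩ := exists_top p β' c
  obtain ⟨γ, θ, k1, k2, k3, k4⟩ := h.exists_packedOn hM hN hc
  obtain ⟨γ', θ', l1, l2, l3, l4⟩ := (h'.comp (swap c c')).exists_packedOn hM hN (c := c)
    fun d hd => by simpa using hc' (swap c c' d) (by simpa using hd)
  have h1 : ∀ i, (p : ℤ) ∣ γ' i - γ i := fun i => by
    have h2 : (p : ℤ) ∣ (β' ∘ swap c c') i - β' i := by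
      simp only [Function.comp_apply, swap_apply_def]
      split_ifs with h3 h4
      · rw [h3, ← neg_sub]; exact hc1'.neg_right
      · rwa [h4]
      · simp
    exact (dvd_sub (dvd_add (dvd_add (l3 i) h2) (hπ i)) (k3 i)).trans (dvd_of_eq (by ring))
  have h1' : ∀ i, (p : ℤ) ∣ γ i - γ' i := fun i => by rw [← neg_sub]; exact (h1 i).neg_right
  have h2 : (univ.erase c).image γ' = (univ.erase c).image γ := by
    refine Subset.antisymm (image_subset_iff.2 fun d hd => mem_image.2 ?_)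
      (image_subset_iff.2 fun d hd => mem_image.2 ?_)
    exacts [k4.exists_eq_of_congr hp k1.good l1.good l4 h1 hd,
      l4.exists_eq_of_congr hp l1.good k1.good k4 h1' hd]
  have h3 : γ c = γ' c := by
    have h4 := congrArg (∑ y ∈ ·, y) h2
    simp only [sum_image l1.good.inj.injOn, sum_image k1.good.inj.injOn] at h4
    have h5 := k1.lvl_eq.trans l1.lvl_eq.symm
    rw [lvl, lvl, ← add_sum_erase _ γ (mem_univ c), ← add_sum_erase _ γ' (mem_univ c)] at h5
    omega
  obtain ⟨ρ, rfl⟩ := exists_perm_of_range k1.good.inj l1.good.inj fun i => by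
    rcases eq_or_ne i c with rfl | hi
    · exact ⟨i, h3⟩
    · exact (k4.exists_eq_of_congr hp k1.good l1.good l4 h1 (by simpa using hi)).imp fun _ h => h.2
  exact sameBlock_trans hM k2 ((k1.comp ρ).unique l1 ▸ sameBlock_symm l2)

variable {B : Set (IrrCharacter (Perm Ω))}

theorem Lab.height_add (hp : p.Prime) (h : Lab β χ) (hχ : χ ∈ B) :
    blockHeight p B (χ : Perm Ω → ℂ) + nu p β = blockDefect p B := by
  have h1 := factorization_charDegree_add_blockDefect (p := p) hχ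
  have h2 := h.degree_mul_HH
  rw [Nat.card_eq_fintype_card, Fintype.card_perm, ← h2, Nat.factorization_mul
    (left_ne_zero_of_mul (h2 ▸ Nat.factorial_ne_zero _)) (HH_ne_zero β), Finsupp.add_apply] at h1
  rw [nu]
  omega

/-- A tuple congruent to the core gives a member of the block. -/
theorem Lab.exists_mem (hM : IsPModular p M) (hN : Fintype.card Ω + p ≤ N) (hB : IsPBlock M B)
    (h : Lab β χ) (hχ : χ ∈ B) (hβ' : Good β') (hc : ∀ i, (p : ℤ) ∣ β' i - pack p β i)
    (hl : lvl β' = lvl (pack p β) + p * hk p β) : ∃ ψ ∈ B, Lab β' ψ := by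
  obtain ⟨ψ, hψ⟩ := hβ'.exists_lab (Ω := Ω) (by rw [hl, h.good.lvl_pack hM.1.pos, h.lvl_eq]; ring)
  exact ⟨ψ, mem_of_sameBlock hM hB hχ (h.sameBlock hM hN hψ (sim_of_dvd fun i => by
    simpa using dvd_sub (hc i) (dvd_sub_pack p β i))), hψ⟩

theorem Lab.exists_sylIn (hM : IsPModular p M) (hN : Fintype.card Ω + p ≤ N) (hB : IsPBlock M B)
    {D : Subgroup (Perm Ω)} (hD : IsDefectGroup p M B D) (h : Lab β χ) (hχ : χ ∈ B) :
    ∃ T : Finset Ω, #T = p * hk p β ∧ SylIn p D (SymOn (T : Set Ω)) ∧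
      blockDefect p B = (p * hk p β)!.factorization p := by
  have hp := hM.1
  have := Fact.mk hp
  obtain ⟨y, hy, hDy⟩ := exists_isDefectClass_sylIn hD
  obtain ⟨x, hx, hx1⟩ := exists_full_support hDy
  obtain ⟨θ, hθ, h0⟩ := Blk.exists_height_zero (p := p) ⟨χ, hχ⟩
  obtain ⟨γ, hγ⟩ := exists_lab (N := N) (by omega) θ
  have hx2 := pElt_of_mem_isPGroup hp hDy.isPGroup hx
  have hxy := Subgroup.mem_centralizer_singleton_iff.1 (hDy.le hx)
  have h1 := WW_le_of_XX hp.pos ((hγ.ne_zero_iff _).1 fun h =>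
    not_li_mul_of_isDefectClass hM hB hy hx2 hxy hθ h0 (h ▸ li_zero hM))
  rw [WW_ty_of_isPPart hp (isPPart_mul hxy hx2 fun h =>
    hy.2.1 (blockCoeff_eq_zero_of_dvd hM hB h ▸ li_zero hM)),
    (h.sim hM (by omega) hγ (sameBlock_of_mem hM hB hχ hθ)).hk_eq hp.pos h.good hγ.good
      (hγ.lvl_eq.trans h.lvl_eq.symm)] at h1
  obtain ⟨T, h2, -, h3⟩ := exists_subsuperset_card_eq (subset_univ x.support) h1 (by
    have := h.good.mul_hk_le hp.pos
    rw [h.lvl_eq] at this
    exact_mod_cast this)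
  have h4 : D ≤ SymOn (T : Set Ω) := fun d hd ω hω =>
    hx1 ω (Perm.notMem_support.1 fun h => hω (h2 h)) d hd
  obtain ⟨hκ, hκ0⟩ := h.good.pack hp.pos
  obtain ⟨c, -, hc⟩ := exists_top p (pack p β) ⟨0, by have := hp.pos; omega⟩
  obtain ⟨ψ, hψ, h5⟩ := h.exists_mem hM hN hB hχ (Top.good hc hκ (hk p β))
    (fun i => by simpa using dvd_ee (dvd_mul_right _ _) c i) (lvl_add_ee _ _ _)
  have h6 := h5.height_add hp hψ
  rw [Top.nu_add_of_empty hp hc hκ (gp_of_hk hκ0 c)] at h6
  obtain ⟨S, hS⟩ := Fusion.exists_sylIn p (SymOn (T : Set Ω))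
  have h7 := hS.of_card_le hDy.isPGroup h4 (by
    rw [SylIn_card_eq hS, card_SymOn, h3, card_eq_pow_blockDefect hM hB hD]
    exact Nat.pow_le_pow_right hp.pos (by omega))
  refine ⟨T, h3, h7, Nat.pow_right_injective hp.two_le ?_⟩
  simp only [← card_eq_pow_blockDefect hM hB hD, SylIn_card_eq h7, card_SymOn, h3]

end CfsgLib.SymChar
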