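import Mathlib
import Cfsg.Agent.Lib.SymChar.Nak

/-!
# An upper bound for the number of Brauer characters in a block of a symmetric group
-/

set_option autoImplicit false

namespace CfsgLib.SymChar

open Equiv Finset Cfsg CfsgLib.Char CfsgLib.Block
open scoped Nat

section Comps

variable {ι : Type*} [DecidableEq ι]

/-- Coloured compositions. -/
def comps (S : Finset ι) : ℕ → Finset (List (ι × ℕ))
  | 0 => {[]}
  | w + 1 => (S ×ˢ comps S w).image (fun x => (x.1, 1) :: x.2) ∪
      ((comps S w).erase []).image fun l => l.modifyHead fun a => (a.1, a.2 + 1)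

theorem mem_comps {S : Finset ι} {w : ℕ} {l : List (ι × ℕ)} :
    l ∈ comps S w ↔ (∀ a ∈ l, a.1 ∈ S ∧ 0 < a.2) ∧ (l.map Prod.snd).sum = w := by
  induction w generalizing l with
  | zero =>
    rcases l with _ | ⟨a, l⟩
    · simp [comps]
    · simp only [comps, mem_singleton, reduceCtorEq, List.mem_cons, forall_eq_or_imp,
        List.map_cons, List.sum_cons, false_iff]
      omega
  | succ w ih =>
    simp only [comps, mem_union, mem_image, mem_product, mem_erase, ih]
    constructor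
    · rintro (⟨⟨i, t⟩, ⟨h1, h2, h3⟩, rfl⟩ | ⟨_ | ⟨a, t⟩, ⟨h1, h2, h3⟩, rfl⟩)
      · simp only [List.mem_cons, forall_eq_or_imp, List.map_cons, List.sum_cons] at h3 ⊢
        exact ⟨⟨⟨h1, one_pos⟩, h2⟩, by omega⟩
      · exact absurd rfl h1
      · simp only [List.modifyHead_cons, List.mem_cons, forall_eq_or_imp, List.map_cons,
          List.sum_cons] at h2 h3 ⊢
        exact ⟨⟨⟨h2.1.1, by omega⟩, h2.2⟩, by omega⟩
    · rcases l with _ | ⟨⟨i, k⟩, t⟩
      · simp
      · simp only [List.mem_cons, forall_eq_or_imp, List.map_cons, List.sum_cons]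
        rintro ⟨⟨⟨h1, h2⟩, h3⟩, h4⟩
        rcases k with _ | _ | k
        · omega
        · exact Or.inl ⟨(i, t), ⟨h1, h3, by simp only; omega⟩, rfl⟩
        · refine Or.inr ⟨(i, k + 1) :: t, ⟨by simp, ?_, ?_⟩, rfl⟩
          · simpa [h1] using h3
          · simp only [List.map_cons, List.sum_cons]; omega

theorem card_comps_le (S : Finset ι) (w : ℕ) : #(comps S (w + 1)) ≤ #S * (#S + 1) ^ w := by
  induction w with
  | zero => simpa [comps] using card_image_le (s := S ×ˢ {[]}) (f := fun x => (x.1, 1) :: x.2)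
  | succ w ih =>
    rw [comps]
    refine (card_union_le _ _).trans ((add_le_add card_image_le
      (card_image_le.trans card_erase_le)).trans ?_)
    rw [card_product, pow_succ]
    nlinarith

/-- The number of coloured partitions. -/
def cc (S : Finset ι) (w : ℕ) : ℕ := #((comps S w).image Multiset.ofList)

theorem cc_le (S : Finset ι) (w : ℕ) : cc S (w + 1) ≤ #S * (#S + 1) ^ w :=
  card_image_le.trans (card_comps_le S w)

theorem two_mul_cc_le (S : Finset ι) (w : ℕ) :
    2 * cc S (w + 1) ≤ #S * (#S + 1) ^ w + #S * (w + 1) := by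
  set C := comps S (w + 1)
  set P := fun l : List (ι × ℕ) => ∀ a ∈ l, ∀ b ∈ l, a = b
  have h1 : 2 * #((C.filter (¬ P ·)).image Multiset.ofList) ≤ #(C.filter (¬ P ·)) :=
    mul_card_image_le_card _ _ fun m hm => by
      obtain ⟨l, hl, rfl⟩ := mem_image.1 hm
      obtain ⟨hl1, hl2⟩ := mem_filter.1 hl
      have key : ∀ b ∈ l, b :: l.erase b ∈
          {x ∈ C.filter (¬ P ·) | Multiset.ofList x = Multiset.ofList l} := fun b hb => by
        have h := List.perm_cons_erase hb
        refine mem_filter.2 ⟨mem_filter.2 ⟨mem_comps.2 ⟨fun a ha => (mem_comps.1 hl1).1 a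
          (h.mem_iff.2 ha), (h.map _).sum_eq.symm.trans (mem_comps.1 hl1).2⟩, fun h' => hl2
            fun a ha b hb => h' a (h.mem_iff.1 ha) b (h.mem_iff.1 hb)⟩, Multiset.coe_eq_coe.2 h.symm⟩
      simp only [P, not_forall] at hl2
      obtain ⟨a, ha, b, hb, hab⟩ := hl2
      exact one_lt_card.2 ⟨_, key a ha, _, key b hb, fun h => hab (List.cons.inj h).1⟩
  have h2 : #(C.filter P) ≤ #S * (w + 1) := by
    have : C.filter P ⊆ (S ×ˢ Icc 1 (w + 1)).image fun a => List.replicate ((w + 1) / a.2) a := by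
      intro l hl
      obtain ⟨hl1, hl2⟩ := mem_filter.1 hl
      obtain ⟨h3, h4⟩ := mem_comps.1 hl1
      rcases l with _ | ⟨a, t⟩
      · simp at h4
      have h5 := List.eq_replicate_of_mem (a := a) fun b hb => hl2 b hb a List.mem_cons_self
      have h6 := h3 a List.mem_cons_self
      refine mem_image.2 ⟨a, mem_product.2 ⟨h6.1, mem_Icc.2 ⟨h6.2, ?_⟩⟩, ?_⟩
      · simp only [List.map_cons, List.sum_cons] at h4; omega
      · rw [h5, List.map_replicate, List.sum_replicate, smul_eq_mul] at h4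
        rw [← h4, Nat.mul_div_cancel _ h6.2, ← h5]
    simpa using (card_le_card this).trans card_image_le
  have h3 : cc S (w + 1) ≤ #((C.filter P).image Multiset.ofList) +
      #((C.filter (¬ P ·)).image Multiset.ofList) := by
    refine le_trans (le_of_eq ?_) (card_union_le _ _)
    rw [← image_union, filter_union_filter_not_eq, cc]
  have h4 : #(C.filter P) + #(C.filter (¬ P ·)) = #C := card_filter_add_card_filter_not P
  have h5 := card_image_le (s := C.filter P) (f := Multiset.ofList)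
  have h6 : #C ≤ _ := card_comps_le S w
  omega

end Comps

variable {N p : ℕ} {β κ : Fin N → ℤ} {V : Type*} [AddCommGroup V] [Module ℂ V]
  {F : (Fin N → ℤ) → V}

/-- Moving a bead on a given runner. -/
def TT (a : ZMod p × ℕ) (F : (Fin N → ℤ) → V) (β : Fin N → ℤ) : V :=
  ∑ c with (β c : ZMod p) = a.1, F (β + ee c (p * a.2))

theorem cast_add_ee (β : Fin N → ℤ) (c d : Fin N) (k : ℤ) :
    (((β + ee c (p * k)) d : ℤ) : ZMod p) = β d := by
  simp only [Pi.add_apply, ee_apply]
  split_ifs <;> simp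

instance : LeftCommutative (TT : ZMod p × ℕ → ((Fin N → ℤ) → V) → (Fin N → ℤ) → V) :=
  ⟨fun a b F => funext fun β => by
    simp only [TT, cast_add_ee]
    rw [sum_comm]
    simp only [add_right_comm β]⟩

theorem foldr_TT_comp (hF : ∀ β (π : Perm (Fin N)), F (β ∘ π) = sg π • F β)
    (l : List (ZMod p × ℕ)) (β : Fin N → ℤ) (π : Perm (Fin N)) :
    l.foldr TT F (β ∘ π) = sg π • l.foldr TT F β := by
  induction l generalizing β with
  | nil => exact hF β π
  | cons a l ih =>
    simp only [List.foldr_cons, TT]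
    rw [smul_sum, sum_filter, sum_filter, ← Equiv.sum_comp π (g := fun c => ite ((β c : ZMod p) = a.1) _ _)]
    refine sum_congr rfl fun c _ => ?_
    rw [← ih, ← ee_comp c _ π]
    rfl

omit [Module ℂ V] in
theorem sum_foldr_TT {k : ℤ} (hF : ∀ β, (∀ i, 0 ≤ β i) → ∑ c, F (β + ee c (p * k)) = 0)
    (l : List (ZMod p × ℕ)) (h : ∀ i, 0 ≤ β i) : ∑ c, l.foldr TT F (β + ee c (p * k)) = 0 := by
  induction l generalizing β with
  | nil => exact hF β h
  | cons a l ih =>
    simp only [List.foldr_cons, TT, cast_add_ee]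
    rw [sum_comm]
    refine sum_eq_zero fun d _ => ?_
    simp only [add_right_comm β]
    exact ih (nn_add_ee h (by positivity))

theorem foldr_TT_mem_span [NeZero p] (hF : ∀ β (π : Perm (Fin N)), F (β ∘ π) = sg π • F β)
    (hκ : Good κ) (h0 : hk p κ = 0) (h : Good β) (hc : ∀ i, (p : ℤ) ∣ β i - κ i) {w : ℕ}
    {l : List (ZMod p × ℕ)} (hl : l ∈ comps univ w) : l.foldr TT F β ∈
      Submodule.span ℂ ((fun l : List (ZMod p × ℕ) => l.foldr TT F κ) '' comps (univ : Finset (ZMod p)) (w + hk p β)) := by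
  have hp := Nat.pos_of_neZero p
  induction hj : hk p β using Nat.strong_induction_on generalizing β l w with
  | _ j ih =>
  rcases eq_or_ne j 0 with rfl | hj0
  · obtain ⟨π, rfl⟩ := exists_perm_of_packed hp hκ h h0 hj hc
    rw [foldr_TT_comp hF]
    exact Submodule.smul_mem _ _ (Submodule.subset_span ⟨l, hl, rfl⟩)
  have h1 := sum_down_up hp (l.foldr TT F) h.nn (K := (lvl β + ∑ i, del N i).toNat) (fun i => by
    have := le_of_nn h.nn i
    have := h.nn i
    nlinarith [Int.self_le_toNat (lvl β + ∑ i, del N i), (by exact_mod_cast hp : (1 : ℤ) ≤ p)])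
    fun γ c d hcd _ _ => by rw [foldr_TT_comp hF, sg_swap hcd, neg_one_smul]
  rw [← Submodule.smul_mem_iff _ (show ((w2 p β : ℤ) : ℂ) ≠ 0 by simp [h.w2_eq hp, hj, hj0]), ← h1]
  refine Submodule.smul_mem _ _ (Submodule.sum_mem _ fun k hk => Submodule.sum_mem _ fun c _ => ?_)
  split_ifs with h2
  swap
  · exact Submodule.zero_mem _
  have h3 : ∑ d with (p : ℤ) ∣ β c - β d, l.foldr TT F (β - ee c (p * k) + ee d (p * k)) =
      ((((β c : ℤ) : ZMod p), k) :: l).foldr TT F (β - ee c (p * k)) := by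
    rw [List.foldr_cons, TT]
    refine sum_congr (filter_congr fun d _ => ?_) fun _ _ => rfl
    rw [sub_eq_add_neg β, ← ee_neg, ← mul_neg, cast_add_ee, ZMod.intCast_eq_intCast_iff_dvd_sub]
  rw [h3]
  by_cases h4 : Good (β - ee c (p * k))
  · have h5 := hk_down hp h h4
    have h6 := (mem_Icc.1 hk).1
    have := ih _ (by omega) h4 (fun i => (dvd_sub (hc i) (dvd_ee (dvd_mul_right _ _) c i)).trans
      (dvd_of_eq (by simp only [Pi.sub_apply]; ring))) (l := (((β c : ℤ) : ZMod p), k) :: l)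
      (w := k + w) (mem_comps.2 ⟨by simpa [show 0 < k by omega] using (mem_comps.1 hl).1,
        by simp [(mem_comps.1 hl).2]⟩) rfl
    rwa [show k + w + SymChar.hk p (β - ee c (p * k)) = w + j by omega] at this
  · obtain ⟨a, b, h5, h6⟩ := Function.not_injective_iff.1 fun h5 => h4 ⟨h5, nn_sub_ee h.nn h2⟩
    rw [eq_zero_of_anti (G := List.foldr TT F _) h5 (by rw [foldr_TT_comp hF, sg_swap h6, neg_one_smul])]
    exact Submodule.zero_mem _

theorem foldr_TT_mem_span' [NeZero p]
    (hF : ∀ k : ℕ, 0 < k → ∀ β, (∀ i, 0 ≤ β i) → ∑ c, F (β + ee c (p * k)) = 0)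
    (hκ : ∀ i, 0 ≤ κ i) {w : ℕ} {l : List (ZMod p × ℕ)} (hl : l ∈ comps univ w) :
    l.foldr TT F κ ∈
      Submodule.span ℂ ((fun l : List (ZMod p × ℕ) => l.foldr TT F κ) '' comps (univ.erase (0 : ZMod p)) w) := by
  induction hj : l.countP (·.1 = 0) using Nat.strong_induction_on generalizing l with
  | _ j ih =>
  obtain ⟨hl1, hl2⟩ := mem_comps.1 hl
  by_cases h : ∃ a ∈ l, a.1 = 0
  · obtain ⟨⟨i, k⟩, ha, rfl⟩ := h
    have h1 := List.perm_cons_erase ha
    have h2 := sum_foldr_TT (hF k (hl1 _ ha).2) (l.erase (0, k)) hκ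
    rw [← sum_fiberwise (g := fun c => (κ c : ZMod p)), ← add_sum_erase _ _ (mem_univ 0)] at h2
    rw [h1.foldr_eq, List.foldr_cons, TT, eq_neg_of_add_eq_zero_left h2]
    refine neg_mem (Submodule.sum_mem _ fun i hi => ih _ ?_ (l := (i, k) :: l.erase (0, k))
      (mem_comps.2 ⟨fun a ha' => ⟨mem_univ _, ?_⟩, ?_⟩) rfl)
    · rw [← hj, h1.countP_eq]
      simp [ne_of_mem_erase hi]
    · rcases List.mem_cons.1 ha' with rfl | ha'
      exacts [(hl1 _ ha).2, (hl1 _ (List.mem_of_mem_erase ha')).2]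
    · rw [← hl2, (h1.map _).sum_eq]; rfl
  · push Not at h
    exact Submodule.subset_span ⟨l, mem_comps.2 ⟨fun a ha => ⟨by simp [h a ha], (hl1 a ha).2⟩, hl2⟩,
      rfl⟩

variable {Ω : Type*} [Fintype Ω] [DecidableEq Ω] {χ : IrrCharacter (Perm Ω)} {M : Ideal AlgInt}
  {B : Set (IrrCharacter (Perm Ω))}

theorem Lab.blockRank_le [NeZero p] (hM : IsPModular p M) (hN : Fintype.card Ω ≤ N)
    (hB : IsPBlock M B) (h : Lab β χ) (hχ : χ ∈ B) :
    blockRank p B ≤ cc (univ.erase (0 : ZMod p)) (hk p β) := by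
  classical
  have hp := hM.1.pos
  obtain ⟨hκ, h0⟩ := h.good.pack hp
  set F := fun γ : Fin N → ℤ => pRegularPart p (chi γ : Perm Ω → ℂ)
  refine le_trans ?_ ((finrank_span_finset_le_card (R := ℂ) _).trans
    (card_image_le (f := fun m => Multiset.foldr TT F m (pack p β))))
  refine Submodule.finrank_mono ?_
  rw [Submodule.span_le]
  rintro _ ⟨ψ, hψ, rfl⟩
  obtain ⟨γ, hγ⟩ := exists_lab hN ψ
  have hs := hγ.sim hM hN h (sameBlock_of_mem hM hB hψ hχ)
  obtain ⟨π, hπ⟩ := hs.trans (sim_of_dvd (β' := pack p β) fun i => by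
    rw [← neg_sub]; exact (dvd_sub_pack p β i).neg_right)
  have h1 := foldr_TT_mem_span (F := F) (fun γ π => funext fun σ => by
    simp only [F, pRegularPart, chi, XX_comp, Pi.smul_apply]
    split_ifs <;> simp) hκ h0 (hγ.comp π).good
    (fun i => by rw [← neg_sub]; exact (hπ i).neg_right) (w := 0) (l := []) (by simp [comps])
  rw [hk_comp, zero_add, ← hs.hk_eq hp hγ.good h.good (h.lvl_eq.trans hγ.lvl_eq.symm)] at h1
  obtain ⟨ε, -, hε⟩ := hγ.comp π
  have h2 : pRegularPart p (ψ : Perm Ω → ℂ) = ε • F (γ ∘ π) := funext fun σ => by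
    simp only [F, pRegularPart, hε, Pi.smul_apply]
    split_ifs <;> simp
  rw [image_image, coe_image]
  refine (Set.mem_of_eq_of_mem h2) (Submodule.smul_mem _ _ (Submodule.span_le.2 ?_ h1))
  rintro _ ⟨l, hl, rfl⟩
  refine foldr_TT_mem_span' (fun k hk γ hγ => funext fun σ => ?_) hκ.nn hl
  simp only [F, pRegularPart, Finset.sum_apply, Pi.zero_apply]
  split_ifs with h3
  · rw [← Nat.cast_mul]
    refine sum_chi_add_ee hN (Nat.mul_pos hp hk) hγ fun h4 => h3 ?_
    obtain ⟨t, ht⟩ := Multiset.exists_cons_of_mem h4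
    rw [dvd_orderOf_iff_WW hM.1, ht, WW_cons_of_dvd (dvd_mul_right _ _)]
    have := Nat.mul_pos hp hk
    omega
  · simp

end CfsgLib.SymChar
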