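import Mathlib
import Cfsg.Agent.Lib.Blk.Dec2
import Cfsg.Agent.Lib.Cover.Graded
import Cfsg.Agent.Lib.ChDeg.Cliff

/-!
# Blocks of subgroups of index two
-/

set_option autoImplicit false

namespace CfsgLib.SymChar

attribute [local implicit_reducible] CfsgLib.Block.K

open Finset Cfsg CfsgLib.Char CfsgLib.Block CfsgLib.Blk CfsgLib.ModRep CfsgLib.Cover MonoidAlgebra

variable {G : Type*} [Group G] [Fintype G] {p : ℕ} {M : Ideal AlgInt}

theorem isIrr_res_of_ne_zero {N : Subgroup G} (hN : N.index = 2) {χ : G → ℂ}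
    (hχ : IsIrrCharacter G χ) {g : G} (hg : g ∉ N) (h : χ g ≠ 0) :
    IsIrrCharacter N fun n : N => χ n := by
  classical
  have hc := isCharacter_restrict N (isCharacter_of_isIrr hχ)
  obtain ⟨m, hm⟩ := exists_classInner_eq_nat hc hc
  have h1 := congrArg Complex.re hm
  have h2 := congrArg Complex.re (classInner_irr_self hχ)
  rw [classInner_self_re] at h1 h2
  rw [← sum_subtype (s := univ.filter (· ∈ N)) (by simp) fun g => ‖χ g‖ ^ 2] at h1
  have h3 := sum_lt_sum_of_subset (filter_subset (· ∈ N) univ) (f := fun g => ‖χ g‖ ^ 2) (i := g)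
    (mem_univ _) (by simpa using hg) (by positivity) fun _ _ _ => by positivity
  have h4 : (0 : ℝ) < Nat.card N := by exact_mod_cast Nat.card_pos
  rw [← N.index_mul_card, hN] at h2
  push_cast at h2
  simp only [Complex.natCast_re, Complex.one_re] at h1 h2
  field_simp at h1 h2
  have h5 : m < 2 := by
    have : (m : ℝ) < 2 := by nlinarith
    exact_mod_cast this
  interval_cases m
  · exact absurd (congrFun (classInner_self_eq_zero.1 (hm.trans Nat.cast_zero)) 1)
      (by simpa using irr_one_ne_zero hχ)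
  · exact isIrr_of_inner_self_eq_one hc (by simpa using hm)

theorem exists_Proj_perm {hM : IsPModular p M} (W : Wedd (K hM) (K hM)[G]) (α : G ≃* G)
    (hα : ∀ a g, Proj W a (α (α g)) = Proj W a g) :
    ∃ σ : Fin W.n → Fin W.n, (∀ a, σ (σ a) = a) ∧ ∀ a g, Proj W a (α g) = Proj W (σ a) g := by
  have h1 : ∀ a, ∃ n : Fin W.n → ℕ, (fun g => Proj W a (α g)) = ∑ c, (n c : ℂ) • Proj W c :=
    fun a => by
      obtain ⟨n, -, hn⟩ := exists_pc_eq_sum W (e := domCongr ℂ ℂ α.symm (JJ W a))
        ((mem_OG hM).2 fun g => by simpa using (mem_OG hM).1 (JJ_mem W a) _) ((JJ_idem W a).map _)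
      refine ⟨n, Eq.trans (funext fun g => ?_) hn⟩
      exact (Fintype.sum_equiv α.toEquiv _ _ fun x => by simp).symm
  choose T hT using h1
  have h2 : ∀ a d, ∑ c, T a c * T c d = if a = d then 1 else 0 := fun a d => by
    have h3 : Proj W a = ∑ d, (∑ c, T a c * T c d : ℂ) • Proj W d := funext fun g => by
      rw [← hα, congrFun (hT a) (α g)]
      simp only [Finset.sum_apply, Pi.smul_apply, fun c => congrFun (hT c) g, smul_eq_mul, mul_sum,
        sum_mul, mul_assoc]
      exact sum_comm
    have h4 := classInner_Proj_ibr W a d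
    rw [h3, classInner_sum_Proj_ibr] at h4
    exact_mod_cast h4
  have h3 : ∀ a, ∃ c, T a c = 1 ∧ T c a = 1 := fun a => by
    obtain ⟨c, -, hc⟩ := exists_ne_zero_of_sum_ne_zero (by simp [h2] : ∑ c, T a c * T c a ≠ 0)
    have := single_le_sum (f := fun c => T a c * T c a) (fun _ _ => Nat.zero_le _) (mem_univ c)
    rw [h2, if_pos rfl] at this
    exact ⟨c, mul_eq_one.1 (by omega)⟩
  choose σ hσ using h3
  have h4 : ∀ a c, c ≠ σ a → T a c = 0 := fun a c hc => by
    have := single_le_sum (f := fun b => T (σ a) b * T b c) (fun _ _ => Nat.zero_le _) (mem_univ a)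
    simpa [h2, hc.symm, (hσ a).2] using this
  refine ⟨σ, fun a => by_contra fun h => ?_, fun a g => ?_⟩
  · simpa [(hσ a).2] using h4 (σ a) a (Ne.symm h)
  · rw [congrFun (hT a) g, sum_eq_single (σ a) (fun c _ hc => by simp [h4 a c hc]) (by simp)]
    simp [(hσ a).1]

variable {N : Subgroup G} {B : Set (IrrCharacter G)} {b : Set (IrrCharacter N)}

/-- Restriction of functions. -/
def resLin (N : Subgroup G) : (G → ℂ) →ₗ[ℂ] (N → ℂ) := LinearMap.funLeft ℂ ℂ (↑)

omit [Fintype G] in
theorem reg_res_mem {χ : IrrCharacter G} (hχ : χ ∈ B) :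
    pRegularPart p (fun n : N => (χ : G → ℂ) n) ∈ (regSpan p B).map (resLin N) :=
  ⟨_, Submodule.subset_span ⟨χ, hχ, rfl⟩, pRegularPart_restrict N _⟩

theorem blockRank_le_of_res (h : ∀ θ ∈ b, ∃ χ ∈ B, (fun n : N => (χ : G → ℂ) n) = θ) :
    blockRank p b ≤ blockRank p B := by
  refine (Submodule.finrank_mono (Submodule.span_le.2 ?_)).trans
    (Submodule.finrank_map_le (resLin N) (regSpan p B))
  rintro _ ⟨θ, hθ, rfl⟩
  obtain ⟨χ, hχ, h⟩ := h θ hθ
  simpa [h] using reg_res_mem (N := N) (p := p) hχ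

theorem blockRank_le_two_mul [N.Normal] [Fintype N] (hN : N.index = 2) (hM : IsPModular p M)
    (hB : IsPBlock M B) (hb : IsPBlock M b) (h : Covers N B b) :
    blockRank p b ≤ 2 * blockRank p B := by
  classical
  obtain ⟨W⟩ := nonempty_wedd (K hM) (K hM)[N]
  obtain ⟨τ, hτ⟩ : ∃ τ, τ ∉ N := by
    by_contra h
    push Not at h
    rw [(Subgroup.eq_top_iff' N).2 h, Subgroup.index_top] at hN
    omega
  have hc : ∀ a, ∀ g ∈ N, ∀ n, Proj W a (MulAut.conjNormal g n) = Proj W a n := fun a g hg n =>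
    congrFun (conjChar_of_mem N hg (isClassFunction_Proj W a)) n
  obtain ⟨σ, h1, h2⟩ := exists_Proj_perm W (MulAut.conjNormal τ) fun a n => by
    rw [← MulAut.mul_apply, ← map_mul, hc a _ (N.mul_self_mem_of_index_two hN τ)]
  set S := fun a => ∑ g : G, conjChar N g (Proj W a)
  have h3 : ∀ a, S a = (#{g : G | g ∈ N} : ℂ) • Proj W a + (#{g : G | g ∉ N} : ℂ) • Proj W (σ a) :=
    fun a => by
      simp only [S]
      rw [← sum_filter_add_sum_filter_not univ (· ∈ N), Nat.cast_smul_eq_nsmul,
        Nat.cast_smul_eq_nsmul, ← sum_const, ← sum_const]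
      congr 1 <;> refine sum_congr rfl fun g hg => funext fun n => ?_
      · exact hc a g (by simpa using hg) n
      · rw [← h2, ← hc a (g * τ⁻¹) ((N.mul_mem_iff_of_index_two hN).2 (by simpa [hτ] using hg)),
          ← MulAut.mul_apply, ← map_mul, inv_mul_cancel_right]
        rfl
  have h4 : ∀ a ∈ ib W b, S a ∈ (regSpan p B).map (resLin N) := fun a ha => by
    have h5 : S a = pRegularPart p (S a) := by
      rw [h3, pRegularPart_add, pRegularPart_smul, pRegularPart_smul, reg_Proj, reg_Proj]
    have h6 : S a = ∑ θ ∈ bf b, (dn W θ a : ℂ) • ∑ g : G, (conjIrr N g θ : N → ℂ) := by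
      simp only [S, smul_sum]
      rw [sum_comm]
      refine sum_congr rfl fun g _ => funext fun n => ?_
      rw [conjChar_apply, Proj_eq_sum_bf hb ha, Finset.sum_apply, Finset.sum_apply]
      rfl
    rw [h5, h6, pRegularPart_sum]
    refine Submodule.sum_mem _ fun θ hθ => ?_
    obtain ⟨χ, hχ, h7⟩ := exists_over_of_covers N hM hB hb h (mem_bf.1 hθ)
    have h8 : ∑ g : G, (conjIrr N g θ : N → ℂ) =
        ((θ : N → ℂ) 1 * Nat.card G / (χ : G → ℂ) 1) • fun n : N => (χ : G → ℂ) n := funext fun n => by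
      have h9 := card_mul_div_eq_sum_conjIrr N χ θ h7 n
      rw [eq_div_iff (irr_one_ne_zero θ.2)] at h9
      rw [Finset.sum_apply, ← h9, Pi.smul_apply, smul_eq_mul]
      ring
    rw [h8, pRegularPart_smul, pRegularPart_smul]
    exact Submodule.smul_mem _ _ (Submodule.smul_mem _ _ (reg_res_mem hχ))
  have key : ∀ A ⊆ ib W b, (∀ a ∈ A, σ a ∈ A → σ a = a) → #A ≤ blockRank p B := fun A hA hA' => by
    have h5 : LinearIndependent ℂ fun a : A => (⟨S a, h4 a (hA a.2)⟩ :
        (regSpan p B).map (resLin N)) := by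
      refine .of_comp (Submodule.subtype _) (Fintype.linearIndependent_iff.2 fun c hc a => ?_)
      have h6 := congrArg (classInner · (ibr W a)) hc
      simp only [Function.comp_apply, Submodule.subtype_apply, h3, classInner_sum_left,
        classInner_smul_left, classInner_add_left, classInner_Proj_ibr, classInner_zero_left] at h6
      rw [sum_eq_single a (fun d _ hd => by
        rw [if_neg (Subtype.coe_ne_coe.2 hd), if_neg fun e : σ d = a => hd (Subtype.ext
          ((hA' d d.2 (e ▸ a.2)).symm.trans e))]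
        simp) (by simp)] at h6
      refine (mul_eq_zero.1 h6).resolve_right ?_
      have h7 : 0 < #{g : G | g ∈ N} := card_pos.2 ⟨1, by simp⟩
      split_ifs <;> norm_cast <;> omega
    simpa [blockRank_eq] using h5.fintype_card_le_finrank.trans (Submodule.finrank_map_le _ _)
  rw [blockRank_eq_card_ib (W := W) hb, ← card_filter_add_card_filter_not (fun a => a ≤ σ a), two_mul]
  refine add_le_add (key _ (filter_subset _ _) fun a ha ha' => ?_)
    (key _ (filter_subset _ _) fun a ha ha' => ?_)
  · have := (mem_filter.1 ha').2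
    rw [h1] at this
    exact le_antisymm this (mem_filter.1 ha).2
  · have := (mem_filter.1 ha').2
    rw [h1] at this
    exact absurd (le_of_not_ge this) (mem_filter.1 ha).2

end CfsgLib.SymChar
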