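import Mathlib
import Cfsg.Agent.Lib.SymChar.Rank
import Cfsg.Agent.Lib.SymChar.Two

/-!
# Blocks of alternating groups
-/

set_option autoImplicit false

namespace CfsgLib.SymChar

open Equiv Finset Cfsg CfsgLib.Char CfsgLib.Block CfsgLib.Fusion CfsgLib.Cover CfsgLib.ChDeg
open scoped Nat

variable {N p : ℕ} {β κ : Fin N → ℤ} {M : Ideal AlgInt}

theorem factorization_factorial_mul_add (hp : p.Prime) (u : ℕ) {r : ℕ} (hr : r < p) :
    (p * u + r)!.factorization p = u + (u)!.factorization p := by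
  have := Fact.mk hp
  rw [add_comm u, ← Nat.factorization_factorial_mul hp, Nat.factorization_def _ hp,
    Nat.factorization_def _ hp, padicValNat_factorial_mul_add u hr]

theorem exists_three (hp : p.Prime) {w : ℕ} (hw : p ≤ w) : ∃ a b c, a + b + c = w ∧
    (a)!.factorization p + (b)!.factorization p + (c)!.factorization p + 1 = (w)!.factorization p := by
  have h2 := hp.two_le
  induction w using Nat.strong_induction_on with
  | _ w ih =>
  obtain ⟨u, r, hr, rfl⟩ : ∃ u r, r < p ∧ w = p * (u + 1) + r :=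
    ⟨w / p - 1, w % p, Nat.mod_lt _ hp.pos, by
      rw [Nat.sub_add_cancel (Nat.div_pos hw hp.pos), Nat.div_add_mod]⟩
  rw [factorization_factorial_mul_add hp _ hr]
  rcases lt_or_ge (u + 1) p with h | h
  · refine ⟨1, p - 1, p * u + r, by rw [mul_add_one]; omega, ?_⟩
    rw [factorization_factorial_mul_add hp _ hr, Nat.factorization_factorial_eq_zero_of_lt h,
      Nat.factorization_factorial_eq_zero_of_lt (show u < p by omega),
      Nat.factorization_factorial_eq_zero_of_lt (show p - 1 < p by omega)]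
    simp
  · obtain ⟨a, b, c, h3, h4⟩ := ih (u + 1) (by nlinarith) h
    refine ⟨p * a, p * b, p * c + r, by rw [← h3]; ring, ?_⟩
    rw [factorization_factorial_mul_add hp _ hr, Nat.factorization_factorial_mul hp,
      Nat.factorization_factorial_mul hp]
    omega

theorem exists_two {w : ℕ} (hw : 2 ≤ w) (h4 : w % 4 ≠ 3) : ∃ a b, a + b = w ∧
    (a)!.factorization 2 + (b)!.factorization 2 + 1 = (w)!.factorization 2 := by
  have hp := Nat.prime_two
  induction w using Nat.strong_induction_on with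
  | _ w ih =>
  obtain ⟨u, r, hr, rfl⟩ : ∃ u r, r < 2 ∧ w = 2 * u + r := ⟨w / 2, w % 2, by omega, by omega⟩
  rw [factorization_factorial_mul_add hp _ hr]
  obtain ⟨t, rfl | rfl⟩ := Nat.even_or_odd' u
  · obtain ⟨a, b, h3, h5⟩ := ih (2 * t) (by omega) (by omega) (by omega)
    refine ⟨2 * a, 2 * b + r, by omega, ?_⟩
    rw [factorization_factorial_mul_add hp _ hr, Nat.factorization_factorial_mul hp]
    omega
  · refine ⟨1, 2 * (2 * t) + 1, by omega, ?_⟩
    rw [factorization_factorial_mul_add hp _ one_lt_two,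
      factorization_factorial_mul_add hp _ one_lt_two, Nat.factorization_factorial_mul hp]
    simp
    omega

theorem Top.gp_add_other {c d : Fin N} (hc : Top p β c) (h : Good β) (u : ℕ)
    (H : ∀ f, gp p β f ≠ ∅ → Top p β f ∧ ¬ (p : ℤ) ∣ β f - β c)
    (hd : gp p (β + ee c (p * u)) d ≠ ∅) : Top p (β + ee c (p * u)) d := by
  rcases eq_or_ne d c with rfl | hdc
  · exact hc.add_self u
  · rw [hc.gp_other h hdc] at hd
    exact (H d hd).1.add_other (H d hd).2 (dvd_mul_right _ _)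

theorem exists_XX_two_step (hp : 0 < p) (h : Good β) (H : ∀ f, gp p β f ≠ ∅ → Top p β f)
    {c : Fin N} (hc : Good (β - ee c (p * (2 : ℕ)))) (ρ : Multiset ℕ) :
    ∃ m : ℕ, 0 < m ∧ XX β ((p * 2) ::ₘ (Multiset.replicate (hk p β - 2) p + ρ)) =
      m * XX (pack p β) ρ := by
  have hp' : (0 : ℤ) < p := by exact_mod_cast hp
  have key : ∀ e, ∃ m : ℕ, (Good (β - ee e (p * (2 : ℕ))) → 0 < m) ∧
      XX (β - ee e (p * (2 : ℕ))) (Multiset.replicate (hk p β - 2) p + ρ) = m * XX (pack p β) ρ := by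
    intro e
    by_cases he : Good (β - ee e (p * (2 : ℕ)))
    swap
    · exact ⟨0, fun h => absurd h he, by rw [XX_of_not_good he]; simp⟩
    have h0 := he.nn e
    simp only [Pi.sub_apply, ee_self, Nat.cast_ofNat] at h0
    have h1 : Good (β - ee e p) := h.move_sub e (by omega) fun d hd e1 => by
      have := H d (nonempty_iff_ne_empty.1 ⟨β e - p * 2, mem_gp.2 ⟨⟨⟨h0, by omega⟩, fun f hf => ?_⟩,
        ⟨1, by omega⟩⟩⟩) e ⟨-1, by omega⟩
      · omega
      · have hfe : f ≠ e := by rintro rfl; omega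
        exact hfe (he.inj (by simp [ee_ne hfe, hf]))
    have h2 : β - ee e (p * (2 : ℕ)) = β - ee e p - ee e p := by
      rw [sub_sub, ← ee_add]; congr 2; push_cast; ring
    obtain ⟨m, hm, h3⟩ := exists_XX_replicate hp he ρ
    refine ⟨m, fun _ => hm, ?_⟩
    rw [hk_down hp h he, Nat.add_sub_cancel, h3, h2, pack_down h1 (h2 ▸ he), pack_down h h1]
  choose m hm using key
  refine ⟨∑ e, m e, sum_pos' (fun _ _ => Nat.zero_le _) ⟨c, mem_univ _, (hm c).1 hc⟩, ?_⟩
  simp only [XX_cons, Nat.cast_mul, Nat.cast_sum, sum_mul, ← fun e => (hm e).2]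

theorem hook_base (hp : 0 < p) (hκ : Good κ) (h0 : hk p κ = 0) {t c : Fin N} (ht : Top p κ t)
    (hc : κ c + p = κ t) : Good (κ + ee c (p * 2)) ∧ Top p (κ + ee c (p * 2)) c ∧
      ∀ d, gp p (κ + ee c (p * 2)) d = if d = t ∨ d = c then {κ c} else ∅ := by
  have hp' : (0 : ℤ) < p := by exact_mod_cast hp
  have h1 : ∀ d, (p : ℤ) ∣ κ c - κ d → κ d ≤ κ c + p := fun d hd =>
    hc ▸ ht d ((dvd_add hd dvd_rfl).trans (dvd_of_eq (by omega)))
  have htc : t ≠ c := by rintro rfl; omega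
  have hn := hκ.nn c
  refine ⟨hκ.move c (by omega) fun d _ e => ?_, fun d hd => ?_, fun d => ?_⟩
  · have := h1 d ⟨-2, by omega⟩
    omega
  · rcases eq_or_ne d c with rfl | hdc
    · rfl
    · simp only [Pi.add_apply, ee_self, ee_ne hdc, add_zero] at hd ⊢
      have := h1 d ((dvd_sub hd (dvd_mul_right _ 2)).trans (dvd_of_eq (by ring)))
      omega
  ext y
  have h2 : ∀ d, ¬ (((0 ≤ y ∧ y < κ d) ∧ ∀ e, κ e ≠ y) ∧ (p : ℤ) ∣ κ d - y) := fun d h =>
    notMem_empty y (gp_of_hk h0 d ▸ mem_gp.2 h)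
  rw [mem_gp]
  constructor
  · rintro ⟨⟨⟨k0, k1⟩, k2⟩, k3⟩
    have k4 : ∀ e, e ≠ c → κ e ≠ y := fun e he => by simpa [ee_ne he] using k2 e
    rcases eq_or_ne y (κ c) with rfl | hy
    · rw [if_pos, mem_singleton]
      refine or_iff_not_imp_right.2 fun hdc => hκ.inj ?_
      simp only [Pi.add_apply, ee_ne hdc, add_zero] at k1 k3
      have := h1 d (by rw [← neg_sub]; exact k3.neg_right)
      have := Int.le_of_dvd (by omega) k3
      omega
    have k5 : ∀ e, κ e ≠ y := fun e => by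
      rcases eq_or_ne e c with rfl | he
      exacts [hy.symm, k4 e he]
    rcases eq_or_ne d c with rfl | hdc
    · simp only [Pi.add_apply, ee_self] at k1 k3
      have := Int.le_of_dvd (by omega) k3
      have := k5 t
      exact absurd ⟨⟨⟨k0, by omega⟩, k5⟩, (dvd_sub k3 dvd_rfl).trans (dvd_of_eq (by omega))⟩ (h2 t)
    · simp only [Pi.add_apply, ee_ne hdc, add_zero] at k1 k3
      exact absurd ⟨⟨⟨k0, k1⟩, k5⟩, k3⟩ (h2 d)
  · intro hy
    split_ifs at hy with hd
    swap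
    · exact absurd hy (notMem_empty y)
    rw [mem_singleton.1 hy]
    refine ⟨⟨⟨hn, ?_⟩, fun e he => ?_⟩, ?_⟩
    · rcases hd with rfl | rfl <;> simp [ee_ne, htc] <;> omega
    · rcases eq_or_ne e c with rfl | hec
      · simp at he; omega
      · exact hec (hκ.inj (by simpa [ee_ne hec] using he))
    · rcases hd with rfl | rfl <;> simp [ee_ne, htc, ← hc]

variable {Ω : Type*} [Fintype Ω] [DecidableEq Ω] {χ : IrrCharacter (Perm Ω)}
  {B : Set (IrrCharacter (Perm Ω))} {b : Set (IrrCharacter (alternatingGroup Ω))}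

theorem orderOf_dvd_iff_ty {σ : Perm Ω} {m : ℕ} : orderOf σ ∣ m ↔ ∀ k ∈ ty σ, k ∣ m := by
  rw [← Perm.lcm_cycleType, Multiset.lcm_dvd, ty_eq]
  simp only [Multiset.mem_add, Multiset.mem_replicate]
  exact ⟨fun h k hk => hk.elim (h k) fun h => h.2 ▸ one_dvd m, fun h k hk => h k (Or.inl hk)⟩

theorem Lab.isIrr_res (h : Lab β χ) {μ : Multiset ℕ} (h0 : ∀ k ∈ μ, 0 < k)
    (ho : Odd (Fintype.card Ω + μ.card)) (hX : XX β μ ≠ 0) :
    IsIrrCharacter (alternatingGroup Ω) fun n => (χ : Perm Ω → ℂ) n := by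
  obtain ⟨σ, rfl⟩ := exists_ty (Ω := Ω) h0 (by exact_mod_cast (nn_of_XX hX).2.symm.trans h.lvl_eq)
  have h1 : σ ∉ alternatingGroup Ω := by
    rw [Perm.mem_alternatingGroup, sign_eq_ty, ho.neg_one_pow]; decide
  rcases subsingleton_or_nontrivial Ω with _ | _
  · exact absurd (Subsingleton.elim 1 σ ▸ Subgroup.one_mem _) h1
  · exact isIrr_res_of_ne_zero alternatingGroup.index_eq_two χ.2 h1 ((h.ne_zero_iff σ).2 hX)

theorem Lab.XX_pack_ne_zero (hp : 0 < p) (h : Lab β χ) : p * hk p β ≤ Fintype.card Ω ∧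
    XX (pack p β) (Multiset.replicate (Fintype.card Ω - p * hk p β) 1) ≠ 0 := by
  have h1 : p * hk p β ≤ Fintype.card Ω := by
    have := h.good.mul_hk_le hp
    rw [h.lvl_eq] at this
    exact_mod_cast this
  exact ⟨h1, (h.good.pack hp).1.XX_one_ne_zero (by
    rw [h.good.lvl_pack hp, h.lvl_eq]; push_cast [h1]; rfl)⟩

theorem Lab.isIrr_res_of_odd (h : Lab β χ) (hw : Odd (hk 2 β)) :
    IsIrrCharacter (alternatingGroup Ω) fun n => (χ : Perm Ω → ℂ) n := by
  obtain ⟨h1, h2⟩ := h.XX_pack_ne_zero two_pos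
  obtain ⟨m, hm, h3⟩ := exists_XX_replicate two_pos h.good
    (Multiset.replicate (Fintype.card Ω - 2 * hk 2 β) 1)
  refine h.isIrr_res ?_ ?_ (h3 ▸ mul_ne_zero (by exact_mod_cast hm.ne') h2)
  · simp only [Multiset.mem_add, Multiset.mem_replicate]
    omega
  · simp only [Multiset.card_add, Multiset.card_replicate, Nat.odd_iff] at hw ⊢
    omega

theorem Lab.isIrr_res_of_even (h : Lab β χ) (hw : Even (hk 2 β))
    (H : ∀ f, gp 2 β f ≠ ∅ → Top 2 β f) {c : Fin N} (hc : Good (β - ee c ((2 : ℕ) * (2 : ℕ)))) :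
    IsIrrCharacter (alternatingGroup Ω) fun n => (χ : Perm Ω → ℂ) n := by
  obtain ⟨h1, h2⟩ := h.XX_pack_ne_zero two_pos
  obtain ⟨m, hm, h3⟩ := exists_XX_two_step two_pos h.good H hc
    (Multiset.replicate (Fintype.card Ω - 2 * hk 2 β) 1)
  have h4 := hk_down two_pos h.good hc
  refine h.isIrr_res ?_ ?_ (h3 ▸ mul_ne_zero (by exact_mod_cast hm.ne') h2)
  · simp only [Multiset.mem_cons, Multiset.mem_add, Multiset.mem_replicate]
    omega
  · simp only [Multiset.card_cons, Multiset.card_add, Multiset.card_replicate, Nat.odd_iff,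
      Nat.even_iff] at hw ⊢
    omega

theorem exists_setup (hM : IsPModular p M) (hb : IsPBlock M b) {D : Subgroup (alternatingGroup Ω)}
    (hD : IsDefectGroup p M b D) :
    ∃ (B : Set (IrrCharacter (Perm Ω))) (P : Subgroup (Perm Ω)) (χ : IrrCharacter (Perm Ω))
      (β : Fin (Fintype.card Ω + 2 * p) → ℤ) (T : Finset Ω), IsPBlock M B ∧ Covers _ B b ∧
      ((alternatingGroup Ω).subtype.comp D.subtype).range = P ⊓ alternatingGroup Ω ∧ χ ∈ B ∧
      Lab β χ ∧ #T = p * hk p β ∧ SylIn p P (SymOn (T : Set Ω)) ∧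
      blockDefect p B = hk p β + (hk p β)!.factorization p ∧
      (p ≠ 2 → P ≤ alternatingGroup Ω ∧ blockDefect p b = blockDefect p B) ∧
      (p = 2 → blockDefect p b = blockDefect p B - 1) := by
  have hs : ∏ _i : Fin 1, Perm.sign (MulAction.toPerm (Multiplicative.ofAdd (1 : ZMod 2)) :
    Perm (Multiplicative (ZMod 2))) ≠ 1 := by decide
  have hp := hM.1
  have := Fact.mk hp
  obtain ⟨B, hB, hc⟩ := exists_covers _ hM hb
  obtain ⟨P, hP, hPD⟩ := exists_isDefectGroup_inf_eq _ hM hB hb hc (Subgroup.map_subtype_le D)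
    (by rwa [Subgroup.subgroupOf, Subgroup.comap_map_eq_self_of_injective
      (Subgroup.subtype_injective _)])
  obtain ⟨χ, hχ, -⟩ := id hc
  obtain ⟨β, h⟩ := exists_lab (N := Fintype.card Ω + 2 * p) (by omega) χ
  obtain ⟨T, h1, h2, h3⟩ := h.exists_sylIn hM (by omega) hB hP hχ
  have h4 := card_inf_eq_of_covers _ hM hB hb hc hP
  have h5 := card_eq_pow_blockDefect hM hB hP
  refine ⟨B, P, χ, β, T, hB, hc, by rw [hPD, MonoidHom.range_comp, Subgroup.range_subtype], hχ, h,
    h1, h2, by rw [h3, Nat.factorization_factorial_mul hp, add_comm], fun h2p => ?_, ?_⟩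
  · have h6 : P ≤ alternatingGroup Ω := fun g hg => by
      obtain ⟨k, hk⟩ := h2.isPGroup ⟨g, hg⟩
      have h7 := congrArg (fun x : P => Perm.sign (x : Perm Ω)) hk
      simp only [SubmonoidClass.coe_pow, map_pow, OneMemClass.coe_one, map_one] at h7
      refine (Int.units_eq_one_or _).resolve_right fun h8 => ?_
      rw [h8, (hp.odd_of_ne_two h2p).pow.neg_one_pow] at h7
      exact absurd h7 (by decide)
    rw [inf_eq_left.2 h6, h5] at h4
    exact ⟨h6, (Nat.pow_right_injective hp.two_le h4).symm⟩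
  rintro rfl
  rcases Nat.eq_zero_or_pos (hk 2 β) with h0 | h0
  · have h6 : blockDefect 2 B = 0 := by simp [h3, h0]
    have := Subgroup.card_le_of_le (inf_le_left : P ⊓ alternatingGroup Ω ≤ P)
    rw [h4, h5, Nat.pow_le_pow_iff_right one_lt_two] at this
    omega
  obtain ⟨f, -, hf⟩ := exists_elem h2 (V := Multiplicative (ZMod 2)) (by decide +revert) (m := 1)
    (by simp; omega)
  obtain ⟨h6, h7⟩ := hf fun _ => .ofAdd 1
  have h8 : f (fun _ => .ofAdd 1) ∉ alternatingGroup Ω := by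
    rw [Perm.mem_alternatingGroup, h7]; exact hs
  rcases subsingleton_or_nontrivial Ω with _ | _
  · exact absurd (Subsingleton.elim 1 (f _) ▸ Subgroup.one_mem _) h8
  have h9 := ((Nat.dvd_prime hp).1 (alternatingGroup.index_eq_two (α := Ω) ▸
    (alternatingGroup Ω).relIndex_dvd_index_of_normal P)).resolve_left
      fun h => h8 (Subgroup.relIndex_eq_one.1 h h6)
  have h10 := Subgroup.relIndex_mul_relIndex ⊥ _ _ bot_le (inf_le_left : P ⊓ alternatingGroup Ω ≤ P)
  rw [Subgroup.relIndex_bot_left, Subgroup.relIndex_bot_left, Subgroup.inf_relIndex_left, h9, h4,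
    h5, ← pow_succ] at h10
  have := Nat.pow_right_injective le_rfl h10
  omega

theorem height_eq_of_ne_two [Nontrivial Ω] (hp : p.Prime) (h2 : p ≠ 2)
    (hd : blockDefect p b = blockDefect p B) (hχ : χ ∈ B) {θ : IrrCharacter (alternatingGroup Ω)}
    (hθ : θ ∈ b) (h : classInner (fun n : alternatingGroup Ω => (χ : Perm Ω → ℂ) n) θ ≠ 0) :
    blockHeight p b (θ : alternatingGroup Ω → ℂ) = blockHeight p B (χ : Perm Ω → ℂ) := by
  obtain ⟨e, he, h3⟩ := exists_deg_eq_mul _ χ.2 θ.2 h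
  rw [alternatingGroup.index_eq_two] at he
  have h4 : ¬ p ∣ 2 := fun h => h2 ((Nat.prime_dvd_prime_iff_eq hp Nat.prime_two).1 h)
  have h5 := factorization_charDegree_add_blockDefect (p := p) hχ
  have h6 := factorization_charDegree_add_blockDefect (p := p) hθ
  rw [h3, ← two_mul_nat_card_alternatingGroup, Nat.factorization_mul
    (ne_zero_of_dvd_ne_zero two_ne_zero he) (deg_pos θ.2).ne', Nat.factorization_mul two_ne_zero
      Nat.card_pos.ne', Finsupp.add_apply, Finsupp.add_apply,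
    Nat.factorization_eq_zero_of_not_dvd h4,
    Nat.factorization_eq_zero_of_not_dvd fun h => h4 (h.trans he)] at h5
  omega

theorem height_eq_of_two [Nontrivial Ω] (hd : blockDefect 2 b + 1 = blockDefect 2 B) (hχ : χ ∈ B)
    {θ : IrrCharacter (alternatingGroup Ω)} (hθ : θ ∈ b)
    (h : (fun n : alternatingGroup Ω => (χ : Perm Ω → ℂ) n) = θ) :
    blockHeight 2 b (θ : alternatingGroup Ω → ℂ) = blockHeight 2 B (χ : Perm Ω → ℂ) := by
  have h5 := factorization_charDegree_add_blockDefect (p := 2) hχ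
  have h6 := factorization_charDegree_add_blockDefect (p := 2) hθ
  rw [← deg_res (alternatingGroup Ω), h, ← two_mul_nat_card_alternatingGroup,
    Nat.factorization_mul two_ne_zero Nat.card_pos.ne', Finsupp.add_apply,
    Nat.prime_two.factorization_self] at h5
  omega

theorem Lab.exists_height_one (hM : IsPModular p M) (hN : Fintype.card Ω + p ≤ N) (h2 : p ≠ 2)
    (hB : IsPBlock M B) (h : Lab β χ) (hχ : χ ∈ B) (hw : p ≤ hk p β)
    (hd : blockDefect p B = hk p β + (hk p β)!.factorization p) :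
    ∃ ψ ∈ B, blockHeight p B (ψ : Perm Ω → ℂ) = 1 := by
  have hp := hM.1
  have hp3 : (3 : ℤ) ≤ p := by have := hp.two_le; omega
  obtain ⟨hκ, h0⟩ := h.good.pack hp.pos
  have hl := h.good.lvl_pack hp.pos
  rw [h.lvl_eq] at hl
  have hpw : (0 : ℤ) ≤ p * hk p β := by positivity
  obtain ⟨r, hr, r1, -⟩ := hκ.exists_top_eq (p := p) (y := 0) le_rfl (by omega)
  obtain ⟨s, hs, s1, -⟩ := hκ.exists_top_eq (p := p) (y := 1) zero_le_one (by omega)
  obtain ⟨t, ht, t1, -⟩ := hκ.exists_top_eq (p := p) (y := 2) zero_le_two (by omega)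
  set κ := pack p β
  have key : ∀ {x y a b : ℤ}, (p : ℤ) ∣ a - x → (p : ℤ) ∣ b - y → 0 < a - b → a - b < 3 →
      ¬ (p : ℤ) ∣ x - y := fun h1 h2 h3 h4 h5 => by
    have := Int.le_of_dvd h3 ((dvd_add (dvd_sub h1 h2) h5).trans (dvd_of_eq (by ring)))
    omega
  have hsr := key s1 r1 (by norm_num) (by norm_num)
  have htr := key t1 r1 (by norm_num) (by norm_num)
  have hts := key t1 s1 (by norm_num) (by norm_num)
  have nsr : s ≠ r := by rintro rfl; simp at hsr
  have ntr : t ≠ r := by rintro rfl; simp at htr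
  have nts : t ≠ s := by rintro rfl; simp at hts
  obtain ⟨a, b, c, h3, h4⟩ := exists_three hp hw
  have g1 := hr.good hκ a
  have hs' := hs.add_other hsr (dvd_mul_right (p : ℤ) a)
  have g2 := hs'.good g1 b
  have ht' := (ht.add_other htr (dvd_mul_right (p : ℤ) a)).add_other (c := s)
    (by simpa [ee_ne nsr, ee_ne ntr] using hts) (dvd_mul_right (p : ℤ) b)
  obtain ⟨ψ, hψ, h5⟩ := h.exists_mem hM hN hB hχ (ht'.good g2 c) (fun i => (dvd_add (dvd_add
    (dvd_ee (dvd_mul_right (p : ℤ) a) r i) (dvd_ee (dvd_mul_right _ (b : ℤ)) s i))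
      (dvd_ee (dvd_mul_right _ (c : ℤ)) t i)).trans (dvd_of_eq (by simp only [Pi.add_apply]; ring)))
    (by simp only [lvl_add_ee, ← h3]; push_cast; ring)
  have h6 := h5.height_add hp hψ
  rw [ht'.nu_add_of_empty hp g2 (by rw [hs'.gp_other g1 nts, hr.gp_other hκ ntr, gp_of_hk h0]),
    hs'.nu_add_of_empty hp g1 (by rw [hr.gp_other hκ nsr, gp_of_hk h0]),
    hr.nu_add_of_empty hp hκ (gp_of_hk h0 _), nu_of_hk hp h0] at h6
  simp only [Nat.factorization_factorial_mul hp] at h6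
  exact ⟨ψ, hψ, by omega⟩

theorem Lab.exists_height_one_two (hM : IsPModular 2 M) (hN : Fintype.card Ω + 2 * 2 ≤ N)
    (hB : IsPBlock M B) (h : Lab β χ) (hχ : χ ∈ B) (hw : 3 ≤ hk 2 β)
    (hd : blockDefect 2 B = hk 2 β + (hk 2 β)!.factorization 2) :
    ∃ ψ ∈ B, blockHeight 2 B (ψ : Perm Ω → ℂ) = 1 ∧
      IsIrrCharacter (alternatingGroup Ω) fun n => (ψ : Perm Ω → ℂ) n := by
  have hp := hM.1
  obtain ⟨hκ, h0⟩ := h.good.pack hp.pos
  have hl := h.good.lvl_pack hp.pos
  rw [h.lvl_eq] at hl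
  have hk' : ∀ {γ : Fin N → ℤ} {ψ : IrrCharacter (Perm Ω)}, ψ ∈ B → Lab γ ψ → hk 2 γ = hk 2 β :=
    fun hψ h' => (h.sim hM (by omega) h' (sameBlock_of_mem hM hB hχ hψ)).hk_eq hp.pos h.good h'.good
      (h'.lvl_eq.trans h.lvl_eq.symm)
  obtain ⟨s, hs, s1, -⟩ := hκ.exists_top_eq (p := 2) (y := 1) zero_le_one (by omega)
  obtain ⟨t, ht, t1, t2⟩ := hκ.exists_top_eq (p := 2) (y := 2) zero_le_two (by omega)
  set κ := pack 2 β
  by_cases h4 : hk 2 β % 4 = 3
  · obtain ⟨c, -, hc⟩ := packed_of_hk hp.pos h0 t (mem_univ _) t2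
    obtain ⟨g1, g2, g3⟩ := hook_base hp.pos hκ h0 ht (c := c) (by omega)
    obtain ⟨v, hv⟩ : ∃ v, hk 2 β = 2 * (2 * v + 1) + 1 := ⟨hk 2 β / 4, by omega⟩
    obtain ⟨ψ, hψ, h5⟩ := h.exists_mem hM (by omega) hB hχ (g2.good g1 (4 * v + 1)) (fun i => (dvd_add
      (dvd_ee (dvd_mul_right ((2 : ℕ) : ℤ) 2) c i)
      (dvd_ee (dvd_mul_right _ ((4 * v + 1 : ℕ) : ℤ)) c i)).trans
        (dvd_of_eq (by simp only [Pi.add_apply]; ring)))
      (by simp only [lvl_add_ee, hv]; push_cast; ring)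
    refine ⟨ψ, hψ, ?_, h5.isIrr_res_of_odd (by rw [hk' hψ h5, hv]; simp)⟩
    have h6 := h5.height_add hp hψ
    have h7 := g2.nu_add hp g1 (4 * v + 1)
    have htc : t ≠ c := by rintro rfl; omega
    have h8 : nu 2 (κ + ee c ((2 : ℕ) * 2)) = 3 := by
      rw [nu_eq hp, ← sum_subset (subset_univ {t, c}) fun d _ hd => by
        rw [g3, if_neg (by simpa using hd), sum_empty], sum_pair htc, g3, g3]
      simp only [true_or, or_true, if_true, sum_singleton, Pi.add_apply, ee_self, ee_ne htc]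
      rw [show κ t + 0 - κ c = (2 ^ 1 : ℕ) by omega, show κ c + (2 : ℕ) * 2 - κ c = (2 ^ 2 : ℕ) by omega,
        Int.natAbs_natCast, Int.natAbs_natCast, hp.factorization_pow, hp.factorization_pow]
      simp
    rw [g3, if_pos (Or.inr rfl), sum_singleton, sum_singleton, h8, Pi.add_apply, ee_self,
      show κ c + (2 : ℕ) * 2 - κ c = (2 ^ 2 : ℕ) by omega,
      show κ c + (2 : ℕ) * 2 + (2 : ℕ) * (4 * v + 1 : ℕ) - κ c = (2 * (4 * v + 3) : ℕ) by omega,
      Int.natAbs_natCast, Int.natAbs_natCast, hp.factorization_pow,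
      Nat.factorization_mul two_ne_zero (by omega), Finsupp.add_apply, hp.factorization_self,
      Nat.factorization_eq_zero_of_not_dvd (by omega), Nat.factorization_factorial_mul hp,
      show 4 * v + 1 = 2 * (2 * v) + 1 by ring, factorization_factorial_mul_add hp _ one_lt_two,
      Nat.factorization_factorial_mul hp, Finsupp.single_eq_same] at h7
    rw [hd, hv, factorization_factorial_mul_add hp _ one_lt_two,
      factorization_factorial_mul_add hp _ one_lt_two, show 4 * v + 1 = 2 * (2 * v) + 1 by ring] at h6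
    omega
  have hst : ¬ ((2 : ℕ) : ℤ) ∣ κ s - κ t := by omega
  have hts : ¬ ((2 : ℕ) : ℤ) ∣ κ t - κ s := by omega
  have nts : t ≠ s := by rintro rfl; simp at hts
  obtain ⟨a, b, hab, h3, h5⟩ : ∃ a b, a ≤ b ∧ a + b = hk 2 β ∧
      (a)!.factorization 2 + (b)!.factorization 2 + 1 = (hk 2 β)!.factorization 2 := by
    obtain ⟨a, b, h3, h5⟩ := exists_two (by omega) h4
    rcases le_total a b with h | h
    exacts [⟨a, b, h, h3, h5⟩, ⟨b, a, h, by omega, by omega⟩]
  have g1 := hs.good hκ a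
  have ht' := ht.add_other hts (dvd_mul_right ((2 : ℕ) : ℤ) a)
  obtain ⟨ψ, hψ, h6⟩ := h.exists_mem hM (by omega) hB hχ (ht'.good g1 b) (fun i => (dvd_add
    (dvd_ee (dvd_mul_right ((2 : ℕ) : ℤ) a) s i) (dvd_ee (dvd_mul_right _ (b : ℤ)) t i)).trans
      (dvd_of_eq (by simp only [Pi.add_apply]; ring)))
    (by simp only [lvl_add_ee, ← h3]; push_cast; ring)
  have h7 := h6.height_add hp hψ
  rw [ht'.nu_add_of_empty hp g1 (by rw [hs.gp_other hκ nts, gp_of_hk h0]),
    hs.nu_add_of_empty hp hκ (gp_of_hk h0 _), nu_of_hk hp h0] at h7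
  simp only [Nat.factorization_factorial_mul hp] at h7
  refine ⟨ψ, hψ, by omega, ?_⟩
  rcases Nat.even_or_odd (hk 2 β) with he | ho
  · refine h6.isIrr_res_of_even (hk' hψ h6 ▸ he) (fun f => ht'.gp_add_other g1 b fun e he => ?_)
      (c := t) ?_
    · obtain rfl : e = s := by
        by_contra h8
        exact he (by rw [hs.gp_other hκ h8, gp_of_hk h0])
      refine ⟨hs.add_self a, ?_⟩
      simp only [Pi.add_apply, ee_self, ee_ne nts]
      omega
    · obtain ⟨b, rfl⟩ : ∃ c, b = c + 2 := ⟨b - 2, by omega⟩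
      convert ht'.good g1 b using 1
      rw [Nat.cast_add, mul_add, ee_add]
      abel
  · exact h6.isIrr_res_of_odd (hk' hψ h6 ▸ ho)

end CfsgLib.SymChar
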